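import Mathlib.RingTheory.RootsOfUnity.Complex
import Mathlib.GroupTheory.FiniteAbelian.Duality
import Mathlib.Analysis.Complex.Polynomial.Basic
import Mathlib.RingTheory.RootsOfUnity.AlgebraicallyClosed

/-!
# Half-commutator retractions

A finite group `E` of odd exponent whose commutators are central scalars carries functions
`r : E → ℂˣ` with `r (a * b) = z (a, b) ^ h * r a * r b` restricting to the identity on scalars.
-/

set_option autoImplicit false

namespace Cfsg.Agent.Lib.BC78.Parity.Retraction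

universe u

variable {E : Type u} [Group E] {N : ℕ}

/-- Central scalars with scalar commutators, in a group of odd exponent. -/
structure Data (ι : rootsOfUnity N ℂ →* E) : Prop where
  inj : Function.Injective ι
  central : ∀ c a, a * ι c = ι c * a
  comm : ∀ a b, ∃ z, a * b = ι z * (b * a)
  exp : ∀ a : E, a ^ N = 1
  odd : Odd N

variable {ι : rootsOfUnity N ℂ →* E} (D : Data ι)

/-- The commutator scalar. -/
noncomputable def z (a b : E) : rootsOfUnity N ℂ := (D.comm a b).choose

theorem z_spec (a b : E) : a * b = ι (z D a b) * (b * a) := (D.comm a b).choose_spec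

theorem z_eq {a b : E} {c : rootsOfUnity N ℂ} (h : a * b = ι c * (b * a)) : z D a b = c :=
  D.inj (mul_right_cancel ((z_spec D a b).symm.trans h))

theorem z_self (a : E) : z D a a = 1 := z_eq D (by rw [map_one, one_mul])

theorem z_scalar_left (c : rootsOfUnity N ℂ) (a : E) : z D (ι c) a = 1 :=
  z_eq D (by rw [map_one, one_mul, D.central])

theorem z_scalar_right (a : E) (c : rootsOfUnity N ℂ) : z D a (ι c) = 1 :=
  z_eq D (by rw [map_one, one_mul, D.central])

theorem z_one_left (a : E) : z D 1 a = 1 := z_eq D (by simp)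

theorem z_symm (a b : E) : z D b a = (z D a b)⁻¹ :=
  z_eq D (by rw [z_spec D a b, map_inv, inv_mul_cancel_left])

theorem z_mul_left (a b c : E) : z D (a * b) c = z D a c * z D b c := by
  refine z_eq D ?_
  rw [mul_assoc, z_spec D b c, ← mul_assoc, D.central, mul_assoc, ← mul_assoc a c b, z_spec D a c,
    map_mul]
  simp only [mul_assoc]
  rw [← mul_assoc (ι (z D b c)), ← D.central, mul_assoc]

theorem z_mul_right (a b c : E) : z D a (b * c) = z D a b * z D a c := by
  rw [z_symm D (b * c) a, z_mul_left, mul_inv, ← z_symm, ← z_symm]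

theorem z_inv_left (a b : E) : z D a⁻¹ b = (z D a b)⁻¹ := by
  refine eq_inv_of_mul_eq_one_left ?_
  rw [← z_mul_left, inv_mul_cancel, z_one_left]

/-- The exponent one half. -/
def hlf (_ : Data ι) : ℕ := (N + 1) / 2

include D in
theorem two_hlf : hlf D + hlf D = N + 1 := by
  obtain ⟨k, hk⟩ := D.odd
  simp only [hlf, hk]
  omega

theorem pow_N (c : rootsOfUnity N ℂ) : c ^ N = 1 :=
  Subtype.ext (by rw [Subgroup.coe_pow]; exact (mem_rootsOfUnity N (c : ℂˣ)).1 c.2)

theorem half_sq (a b : E) : z D a b ^ hlf D * z D a b ^ hlf D = z D a b := by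
  rw [← pow_add, two_hlf, pow_succ, pow_N, one_mul]

/-- The abelianised group. -/
structure Tw (D : Data ι) : Type u where
  /-- The element. -/
  val : E

theorem Tw.ext' {x y : Tw D} (h : x.val = y.val) : x = y := by cases x; cases y; simp_all

noncomputable instance : Mul (Tw D) :=
  ⟨fun x y => ⟨ι (z D x.val y.val ^ hlf D)⁻¹ * (x.val * y.val)⟩⟩

instance : One (Tw D) := ⟨⟨1⟩⟩
instance : Inv (Tw D) := ⟨fun x => ⟨x.val⁻¹⟩⟩

theorem val_mul (x y : Tw D) :
    (x * y).val = ι (z D x.val y.val ^ hlf D)⁻¹ * (x.val * y.val) := rfl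

theorem val_one : (1 : Tw D).val = 1 := rfl

noncomputable instance : CommGroup (Tw D) where
  mul_assoc x y w := Tw.ext' D <| by
    simp only [val_mul]
    rw [z_mul_left D (ι _) (x.val * y.val), z_mul_right D x.val (ι _), z_scalar_left,
      z_scalar_right, one_mul, one_mul, z_mul_left, z_mul_right]
    rw [← mul_assoc x.val (ι _), D.central, mul_assoc (ι _) (x.val * y.val), mul_assoc (ι _) x.val,
      ← mul_assoc (ι _) (ι _), ← mul_assoc (ι _) (ι _), ← map_mul, ← map_mul, mul_assoc x.val]
    congr 2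
    simp only [mul_pow, mul_inv]
    simp only [mul_comm, mul_left_comm, ← mul_assoc]
  one_mul x := Tw.ext' D <| by simp [val_mul, val_one, z_one_left]
  mul_one x := Tw.ext' D <| by
    rw [val_mul, val_one, z_symm, z_one_left]
    simp
  inv_mul_cancel x := Tw.ext' D <| by
    show ι (z D x.val⁻¹ x.val ^ hlf D)⁻¹ * (x.val⁻¹ * x.val) = 1
    simp [z_inv_left, z_self]
  mul_comm x y := Tw.ext' D <| by
    rw [val_mul, val_mul, z_spec D x.val y.val, ← mul_assoc, ← map_mul, z_symm D x.val y.val]
    congr 2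
    rw [inv_pow, inv_inv, inv_mul_eq_iff_eq_mul, half_sq]

/-- A retraction onto the scalars. -/
structure IsRet (D : Data ι) (r : E → ℂˣ) : Prop where
  map_mul : ∀ a b, r (a * b) = (z D a b ^ hlf D : rootsOfUnity N ℂ) * r a * r b
  map_scalar : ∀ c : rootsOfUnity N ℂ, r (ι c) = c

/-- Retractions exist. -/
theorem exists_ret [Finite E] : ∃ r : E → ℂˣ, IsRet D r := by
  haveI : NeZero N := ⟨D.odd.pos.ne'⟩
  haveI : Finite (Tw D) :=
    Finite.of_injective (fun x => x.val) fun x y h => Tw.ext' D h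
  let i : rootsOfUnity N ℂ →* Tw D :=
    { toFun := fun c => ⟨ι c⟩
      map_one' := Tw.ext' D (map_one ι)
      map_mul' := fun c d => Tw.ext' D (by
        rw [val_mul, z_scalar_left, one_pow, inv_one, map_one, one_mul, map_mul]) }
  have hi : Function.Injective i := fun c d h => D.inj (congrArg Tw.val h)
  let ψ : i.range →* ℂˣ :=
    (rootsOfUnity N ℂ).subtype.comp (MonoidHom.ofInjective hi).symm.toMonoidHom
  obtain ⟨χ, hχ⟩ := MonoidHom.restrict_surjective ℂ i.range ψ
  have hι : ∀ c, χ ⟨ι c⟩ = c := fun c => by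
    have h := DFunLike.congr_fun hχ ⟨i c, ⟨c, rfl⟩⟩
    rw [MonoidHom.restrictHom_apply, MonoidHom.restrict_apply] at h
    refine h.trans (congrArg Subtype.val ?_)
    exact (MonoidHom.ofInjective hi).symm_apply_eq.2 rfl
  refine ⟨fun a => χ ⟨a⟩, fun a b => ?_, hι⟩
  have h : (⟨a * b⟩ : Tw D) = ⟨ι (z D a b ^ hlf D)⟩ * ((⟨a⟩ : Tw D) * ⟨b⟩) := Tw.ext' D (by
    simp only [val_mul, z_mul_right, z_scalar_left, one_mul, one_pow, inv_one, map_one]
    rw [← mul_assoc, ← map_mul, mul_inv_cancel, map_one, one_mul])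
  show χ ⟨a * b⟩ = _
  rw [h, map_mul, map_mul, hι, mul_assoc]

variable {D} {r : E → ℂˣ} (hr : IsRet D r)
include hr

theorem IsRet.map_one' : r 1 = 1 := by
  simpa using hr.map_scalar 1

theorem IsRet.map_pow (a : E) : ∀ n : ℕ, r (a ^ n) = r a ^ n
  | 0 => by simpa using hr.map_one'
  | n + 1 => by
    have hz : z D (a ^ n) a = 1 := by
      refine z_eq D ?_
      simp [← pow_succ, ← pow_succ']
    rw [pow_succ, hr.map_mul, hz, IsRet.map_pow a n, one_pow, pow_succ]
    simp

theorem IsRet.pow_N (a : E) : r a ^ N = 1 := by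
  rw [← hr.map_pow, D.exp, hr.map_one']

theorem IsRet.map_inv (a : E) : r a⁻¹ = (r a)⁻¹ := by
  refine eq_inv_of_mul_eq_one_left ?_
  have h := hr.map_mul a⁻¹ a
  rw [inv_mul_cancel, hr.map_one', z_inv_left, z_self, inv_one, one_pow] at h
  simpa using h.symm

end Cfsg.Agent.Lib.BC78.Parity.Retraction
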