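import Mathlib.GroupTheory.GroupAction.Basic
import Mathlib.GroupTheory.QuotientGroup.Basic
import Mathlib.Algebra.BigOperators.Group.Finset.Basic
import Mathlib.Algebra.Group.End
import Mathlib.GroupTheory.OrderOfElement
import Mathlib.Tactic.Abel
import Mathlib.Algebra.Group.TypeTags.Basic

/-!
# Fixed points of a coprime action on a transitive set of an abelian group
-/

set_option autoImplicit false

namespace Cfsg.Agent.Lib.BC78.Parity.Torsor

universe u v w

variable {A : Type u} [CommGroup A] {X : Type v} [MulAction A X]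
  {S : Type w} [Group S] [Finite S] [MulAction S X] (sA : S →* MulAut A)
  (hcomp : ∀ (s : S) (a : A) (x : X), s • a • x = sA s a • s • x)
  {N : ℕ} (hN : ∀ a : A, a ^ N = 1) (hcop : N.Coprime (Nat.card S))

omit [Finite S] in
include hN hcop in
/-- Roots of order `#S` are unique in any subgroup. -/
theorem mem_of_pow_mem {T : Subgroup A} {a : A} (ha : a ^ Nat.card S ∈ T) : a ∈ T := by
  have hord : (orderOf a).Coprime (Nat.card S) :=
    hcop.coprime_dvd_left (orderOf_dvd_of_pow_eq_one (hN a))
  obtain ⟨m, hm⟩ := exists_pow_eq_self_of_coprime hord.symm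
  rw [← hm]
  exact T.pow_mem ha m

include hcomp hN hcop in
/-- A fixed point exists. -/
theorem exists_fixed (x₀ : X) (htr : ∀ s : S, ∃ a : A, s • x₀ = a • x₀) :
    ∃ a : A, ∀ s : S, s • a • x₀ = a • x₀ := by
  classical
  letI := Fintype.ofFinite S
  choose c hc using htr
  let T : Subgroup A := MulAction.stabilizer A x₀
  have hco : ∀ t s, ((sA t (c s) * c t : A) : A ⧸ T) = (c (t * s) : A ⧸ T) := by
    intro t s
    rw [eq_comm, QuotientGroup.eq, MulAction.mem_stabilizer_iff, mul_smul, inv_smul_eq_iff,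
      mul_smul, ← hc, ← hcomp, ← hc, ← hc, mul_smul]
  have hunit : ∀ q : A ⧸ T, ∃ r : A ⧸ T, r ^ Nat.card S = q := by
    intro q
    induction q using QuotientGroup.induction_on with
    | H a =>
      obtain ⟨m, hm⟩ := exists_pow_eq_self_of_coprime
        ((hcop.coprime_dvd_left (orderOf_dvd_of_pow_eq_one (hN a))).symm)
      refine ⟨((a ^ m : A) : A ⧸ T), ?_⟩
      rw [← QuotientGroup.mk_pow, ← pow_mul, mul_comm, pow_mul, hm]
  obtain ⟨r, hr⟩ := hunit ((∏ s, c s : A) : A ⧸ T)
  obtain ⟨a, rfl⟩ := QuotientGroup.mk_surjective r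
  rw [← QuotientGroup.mk_pow] at hr
  refine ⟨a, fun t => ?_⟩
  rw [hcomp, hc, ← mul_smul]
  have key : a⁻¹ * (sA t a * c t) ∈ T := by
    refine mem_of_pow_mem (S := S) hN hcop ?_
    have h1 : a ^ Nat.card S * (∏ s, c s)⁻¹ ∈ T := by
      have h := QuotientGroup.eq.1 hr
      have h' := T.inv_mem h
      rwa [mul_inv_rev, inv_inv, mul_comm] at h'
    have h2 : sA t (a ^ Nat.card S * (∏ s, c s)⁻¹) ∈ T := by
      have hx : ∀ b ∈ T, sA t b ∈ T := by
        intro b hb
        have hb' : b • x₀ = x₀ := hb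
        have h := hcomp t b x₀
        rw [hb', hc, ← mul_smul] at h
        show sA t b • x₀ = x₀
        have h3 := congrArg ((c t)⁻¹ • ·) h.symm
        simp only [← mul_smul] at h3
        rwa [mul_comm (sA t b), inv_mul_cancel_left, inv_mul_cancel, one_smul] at h3
      exact hx _ h1
    have h3 : ((∏ s, sA t (c s) * c t : A) : A ⧸ T) = ((∏ s, c s : A) : A ⧸ T) := by
      rw [← QuotientGroup.mk'_apply, ← QuotientGroup.mk'_apply, map_prod, map_prod]
      exact Fintype.prod_equiv (Equiv.mulLeft t) _ _ fun s => hco t s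
    have h4 := QuotientGroup.eq.1 h3.symm
    have h5 := T.mul_mem (T.mul_mem (T.inv_mem h1) h2) h4
    have e : (∏ s, sA t (c s) * c t) = sA t (∏ s, c s) * c t ^ Nat.card S := by
      rw [Finset.prod_mul_distrib, Finset.prod_const, Finset.card_univ,
        ← Nat.card_eq_fintype_card, map_prod]
    rw [e, map_mul, map_inv, map_pow] at h5
    convert h5 using 1
    rw [mul_pow, mul_pow, inv_pow]
    apply Additive.ofMul.injective
    simp only [ofMul_mul, ofMul_inv]
    abel
  have hk : (a⁻¹ * (sA t a * c t)) • x₀ = x₀ := key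
  rw [← mul_inv_cancel_left a (sA t a * c t), mul_smul, hk]

include hcomp hN hcop in
/-- The fixed point is unique when no nontrivial element of `A` is fixed. -/
theorem fixed_unique (hfix : ∀ a : A, (∀ s, sA s a = a) → a = 1) {x : X} (hx : ∀ s : S, s • x = x)
    {a : A} (hax : ∀ s : S, s • a • x = a • x) : a • x = x := by
  classical
  letI := Fintype.ofFinite S
  let T : Subgroup A := MulAction.stabilizer A x
  have hP : (∏ s, sA s a) = 1 := hfix _ fun t => by
    rw [map_prod]
    exact Fintype.prod_equiv (Equiv.mulLeft t) _ _ fun s => by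
      simp [map_mul, MulAut.mul_apply]
  have hmem : ∀ s, (sA s a)⁻¹ * a ∈ T := fun s => by
    show ((sA s a)⁻¹ * a) • x = x
    rw [mul_smul, inv_smul_eq_iff]
    have h := hax s
    rw [hcomp, hx] at h
    exact h.symm
  have hpow : a ^ Nat.card S ∈ T := by
    have h := T.prod_mem (t := Finset.univ) (f := fun s => (sA s a)⁻¹ * a) fun s _ => hmem s
    rwa [Finset.prod_mul_distrib, Finset.prod_inv_distrib, hP, inv_one, one_mul, Finset.prod_const,
      Finset.card_univ, ← Nat.card_eq_fintype_card] at h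
  exact mem_of_pow_mem (S := S) hN hcop (T := T) hpow

end Cfsg.Agent.Lib.BC78.Parity.Torsor
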