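import Cfsg.Agent.Lib.BC78.Parity.Twisters
import Cfsg.Agent.Lib.BC78.Parity.Retraction
import Cfsg.Agent.Lib.BC78.Parity.Torsor
import Mathlib.FieldTheory.IsAlgClosed.Basic

/-!
# The antipode of a fully ramified abelian section with a coprime fixed point free action

`exists_antipode`: an involution `J` of an irreducible representation `σ` of `K`, commuting with the
normal subgroup `L`, inverting `K / L` on the commutant of `L`, with trace on `L` proportional to
the constituent, and invariant under the automorphisms commuting with the action modulo `L`.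
-/

set_option autoImplicit false

namespace Cfsg.Agent.Lib.BC78.Parity

open Cfsg.Agent.Lib.Clifford

universe u v w w'

variable {K : Type u} [Group K] [Fintype K] {L : Subgroup K} [hLn : L.Normal] [Fintype L]
  {W : Type w} [AddCommGroup W] [Module ℂ W] [FiniteDimensional ℂ W] {U : Type w'}
  [AddCommGroup U] [Module ℂ U] [FiniteDimensional ℂ U] {S : Type v} [Group S] [Finite S]

/-- The hypotheses: `σ` restricted to `L` is a multiple of `τ`, and `S` acts coprimely and fixed
point freely on `K / L`, fixing `σ`. -/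
structure Setting (L : Subgroup K) [Fintype L] (σ : Representation ℂ K W)
    (τ : Representation ℂ L U) (act : S →* MulAut K) (e : ℕ) : Prop where
  odd : Odd (Nat.card K)
  comm : ∀ a b : K, a * b * a⁻¹ * b⁻¹ ∈ L
  irr : σ.IsIrreducible
  irrU : τ.IsIrreducible
  iso : ∀ l : L, σ.character l = e * τ.character l
  cop : (Nat.card K).Coprime (Nat.card S)
  stab : ∀ s, ∀ x ∈ L, act s x ∈ L
  fpf : ∀ k, (∀ s, act s k * k⁻¹ ∈ L) → k ∈ L
  inv : ∀ s k, σ.character (act s k) = σ.character k

/-- An automorphism that is admissible: it fixes `σ` and `L`, and commutes with the action up to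
an inner automorphism by `L`. -/
structure Adm (L : Subgroup K) (σ : Representation ℂ K W) (act : S →* MulAut K) (α : MulAut K) :
    Prop where
  stab : ∀ x ∈ L, α x ∈ L
  inv : ∀ k, σ.character (α k) = σ.character k
  comm : ∀ s, ∃ l ∈ L, ∀ k, act s (α k) = α (l * act s k * l⁻¹)

variable {σ : Representation ℂ K W} {τ : Representation ℂ L U} {act : S →* MulAut K} {e : ℕ}
  (hs : Setting L σ τ act e)

variable (L σ) in
/-- The twisting operators of exponent dividing the order of the group. -/
def tw [σ.IsIrreducible] (hodd : Odd (Nat.card K)) : Subgroup (Module.End ℂ W)ˣ where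
  carrier := {a | (∃ lam, Twist L σ lam a) ∧ a ^ Nat.card K = 1}
  one_mem' := ⟨⟨1, Twist.one⟩, one_pow _⟩
  mul_mem' := by
    rintro a b ⟨⟨lam, ha⟩, ha1⟩ ⟨⟨mu, hb⟩, hb1⟩
    refine ⟨⟨lam * mu, ha.mul hb⟩, ?_⟩
    obtain ⟨z, hz⟩ := hb.comm ha
    have hN : sc z ^ Nat.card K = (1 : (Module.End ℂ W)ˣ) := by
      have h : b * a * b⁻¹ = sc z * a := by rw [hz, mul_assoc, mul_inv_cancel_right]
      have h2 := congrArg (· ^ Nat.card K) h
      simp only [conj_pow, (show Commute (sc z) a from (sc_comm z a).symm).mul_pow, ha1, mul_one,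
        mul_inv_cancel] at h2
      exact h2.symm
    have hcz : ∀ x : (Module.End ℂ W)ˣ, Commute (sc z) x := fun x => (sc_comm z x).symm
    have hswap : ∀ n : ℕ, b ^ n * a = sc z ^ n * a * b ^ n := by
      intro n
      induction n with
      | zero => simp
      | succ n ih =>
        rw [pow_succ' b, mul_assoc, ih, ← mul_assoc, ← mul_assoc, ((hcz b).pow_left n).eq.symm,
          mul_assoc (sc z ^ n), hz]
        simp only [pow_succ, mul_assoc]
    have key : ∀ n : ℕ, (a * b) ^ n = sc z ^ n.choose 2 * (a ^ n * b ^ n) := by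
      intro n
      induction n with
      | zero => simp
      | succ n ih =>
        have h2 : (n + 1).choose 2 = n.choose 2 + n := by
          rw [Nat.choose_succ_succ' n 1, Nat.choose_one_right, add_comm]
        rw [pow_succ, ih, h2, pow_add, mul_assoc (sc z ^ _), mul_assoc (a ^ n), ← mul_assoc (b ^ n),
          hswap]
        simp only [pow_succ, ← mul_assoc]
        rw [mul_assoc _ (a ^ n) (sc z ^ n), ((hcz (a ^ n)).pow_left n).symm.eq, ← mul_assoc]
    rw [key, ha1, hb1, mul_one, mul_one]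
    obtain ⟨k, hk⟩ := hodd
    rw [Nat.choose_two_right, show Nat.card K * (Nat.card K - 1) / 2 = Nat.card K * k from by
      rw [hk, show 2 * k + 1 - 1 = 2 * k from rfl, show (2 * k + 1) * (2 * k) = (2 * k + 1) * k * 2
        from by ring, Nat.mul_div_cancel _ two_pos], pow_mul, hN, one_pow]
  inv_mem' := by
    rintro a ⟨⟨lam, ha⟩, ha1⟩
    exact ⟨⟨lam⁻¹, ha.inv⟩, by rw [inv_pow, ha1, inv_one]⟩

/-- The scalars among the twisting operators. -/
noncomputable def scTw [σ.IsIrreducible] (hodd : Odd (Nat.card K)) :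
    rootsOfUnity (Nat.card K) ℂ →* tw L σ hodd :=
  ((sc (W := W)).comp (rootsOfUnity (Nat.card K) ℂ).subtype).codRestrict _ fun c =>
    ⟨⟨1, Twist.scalar _⟩, by
      rw [MonoidHom.comp_apply, Subgroup.subtype_apply, ← map_pow,
        (mem_rootsOfUnity _ (c : ℂˣ)).1 c.2, map_one]⟩

theorem coe_scTw [σ.IsIrreducible] (hodd : Odd (Nat.card K))
    (c : rootsOfUnity (Nat.card K) ℂ) :
    ((scTw (L := L) (σ := σ) hodd c : tw L σ hodd) : (Module.End ℂ W)ˣ) = sc (c : ℂˣ) := rfl

section

variable [σ.IsIrreducible] (hodd : Odd (Nat.card K))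

theorem exists_scTw (a : tw L σ hodd) (ha : Twist L σ 1 (a : (Module.End ℂ W)ˣ)) :
    ∃ c, a = scTw hodd c := by
  have := Rep.nontrivial_of_irreducible σ
  obtain ⟨c, hc⟩ := ha.eq_sc
  have hcN : c ^ Nat.card K = 1 := sc_injective (W := W) (by rw [map_pow, ← hc, a.2.2, map_one])
  exact ⟨⟨c, (mem_rootsOfUnity _ c).2 hcN⟩, Subtype.ext hc⟩

theorem data : Retraction.Data (scTw (L := L) (σ := σ) hodd) where
  inj := fun c d h => by
    have := Rep.nontrivial_of_irreducible σ
    exact Subtype.ext (sc_injective (congrArg Subtype.val h))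
  central c a := Subtype.ext (sc_comm _ _)
  comm a b := by
    obtain ⟨lam, ha⟩ := a.2.1
    obtain ⟨mu, hb⟩ := b.2.1
    have h : Twist L σ 1 ((a * b * (b * a)⁻¹ : tw L σ hodd) : (Module.End ℂ W)ˣ) := by
      have h' := (ha.mul hb).mul (hb.mul ha).inv
      rwa [show lam * mu * (mu * lam)⁻¹ = 1 from MonoidHom.ext fun k => by
        simp only [MonoidHom.mul_apply, MonoidHom.inv_apply, MonoidHom.one_apply]
        rw [mul_comm (mu k), mul_inv_cancel]] at h'
    obtain ⟨c, hc⟩ := exists_scTw hodd _ h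
    exact ⟨c, by rw [← hc, inv_mul_cancel_right]⟩
  exp a := Subtype.ext a.2.2
  odd := hodd

/-- The character of a twisting operator. -/
noncomputable def lamHom : tw L σ hodd →* (K →* ℂˣ) :=
  haveI := Rep.nontrivial_of_irreducible σ
  MonoidHom.mk' (fun a => a.2.1.choose) fun a b =>
    (a * b).2.1.choose_spec.unique (a.2.1.choose_spec.mul b.2.1.choose_spec)

theorem lamHom_spec (a : tw L σ hodd) :
    Twist L σ (lamHom hodd a) (a : (Module.End ℂ W)ˣ) := a.2.1.choose_spec

theorem finite_tw : Finite (tw L σ hodd) := by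
  have := Rep.nontrivial_of_irreducible σ
  haveI : NeZero (Nat.card K) := ⟨Nat.card_pos.ne'⟩
  haveI : Finite (K →* ℂˣ) :=
    Finite.of_injective _ Characters.Linear.linChar_injective
  haveI : Finite (lamHom (L := L) (σ := σ) hodd).ker := by
    refine Finite.of_surjective (fun c => ⟨scTw hodd c, ?_⟩) ?_
    · exact (lamHom_spec hodd _).unique (Twist.scalar _)
    · rintro ⟨a, ha⟩
      have h := lamHom_spec hodd a
      rw [MonoidHom.mem_ker.1 ha] at h
      obtain ⟨c, hc⟩ := exists_scTw hodd a h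
      exact ⟨c, Subtype.ext hc.symm⟩
  haveI : Finite ((tw L σ hodd) ⧸ (lamHom (L := L) (σ := σ) hodd).ker) :=
    Finite.of_injective _ (QuotientGroup.kerLift_injective (lamHom hodd))
  exact Finite.of_equiv _
    (Subgroup.groupEquivQuotientProdSubgroup (s := (lamHom (L := L) (σ := σ) hodd).ker)).symm

theorem pow_card_eq_one {lam : K →* ℂˣ} : lam ^ Nat.card K = 1 :=
  MonoidHom.ext fun k => by
    rw [show (lam ^ Nat.card K) k = lam k ^ Nat.card K from rfl, ← map_pow, pow_card_eq_one',
      map_one]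
    rfl

end

/-! ## Transport along automorphisms -/

/-- `P` intertwines `σ` with its composite with `α`. -/
def Intw (σ : Representation ℂ K W) (α : MulAut K) (P : (Module.End ℂ W)ˣ) : Prop :=
  ∀ k, (P : Module.End ℂ W) * σ k = σ (α k) * (P : Module.End ℂ W)

omit [Fintype K] [FiniteDimensional ℂ W] in
theorem Intw.mul {α β : MulAut K} {P Q : (Module.End ℂ W)ˣ} (hP : Intw σ α P) (hQ : Intw σ β Q) :
    Intw σ (α * β) (P * Q) := fun k => by
  rw [Units.val_mul, mul_assoc, hQ, ← mul_assoc, hP, mul_assoc]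
  rfl

theorem Intw.conj_eq [σ.IsIrreducible] {α : MulAut K} {P Q : (Module.End ℂ W)ˣ} (hP : Intw σ α P)
    (hQ : Intw σ α Q) (a : (Module.End ℂ W)ˣ) : P * a * P⁻¹ = Q * a * Q⁻¹ := by
  obtain ⟨c, hc⟩ := Rep.schur σ ((↑(Q⁻¹ * P) : Module.End ℂ W)) fun k => by
    rw [Units.val_mul, mul_assoc, hP k, ← mul_assoc, ← mul_assoc]
    congr 1
    rw [← Units.mul_left_inj Q]
    rw [mul_assoc _ (σ (α k)), ← hQ k, ← mul_assoc, Units.inv_mul, one_mul, mul_assoc,
      Units.inv_mul, mul_one]
  have hc' : Commute (Q⁻¹ * P) a := Units.ext (by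
    rw [Units.val_mul (Q⁻¹ * P), Units.val_mul a, hc]
    simp)
  have h := congrArg (fun x => Q * x * P⁻¹) hc'.eq
  simpa [mul_assoc] using h

theorem exists_intw [hirr : σ.IsIrreducible] (α : MulAut K)
    (h : ∀ k, σ.character (α k) = σ.character k) : ∃ P, Intw σ α P := by
  obtain ⟨E, hE⟩ := Rep.exists_equiv_of_char σ (σ.comp α.toMonoidHom) (funext h)
  refine ⟨⟨E.toLinearMap, E.symm.toLinearMap, LinearMap.ext fun x => E.apply_symm_apply x,
    LinearMap.ext fun x => E.symm_apply_apply x⟩, fun k => hE k⟩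

theorem Intw.twist {α : MulAut K} {P : (Module.End ℂ W)ˣ} (hP : Intw σ α P)
    (hα : ∀ x ∈ L, α x ∈ L) {lam : K →* ℂˣ} {a : (Module.End ℂ W)ˣ} (ha : Twist L σ lam a) :
    Twist L σ (lam.comp α.symm.toMonoidHom) (P * a * P⁻¹) := by
  refine ⟨fun x hx => ?_, fun k => ?_⟩
  · have hbij : Function.Surjective (fun y : L => (⟨α y, hα y y.2⟩ : L)) :=
      Finite.surjective_of_injective fun p q h => Subtype.ext (α.injective (congrArg Subtype.val h))
    obtain ⟨y, hy⟩ := hbij ⟨x, hx⟩
    show lam (α.symm x) = 1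
    rw [show α.symm x = y from by rw [MulEquiv.symm_apply_eq]; exact (congrArg Subtype.val hy).symm]
    exact ha.1 y y.2
  · have h1 : σ k * (P : Module.End ℂ W) = P * σ (α.symm k) := by
      rw [hP, MulEquiv.apply_symm_apply]
    have h2 : σ (α.symm k) * (↑P⁻¹ : Module.End ℂ W) = ↑P⁻¹ * σ k := by
      rw [← Units.mul_right_inj P, ← mul_assoc, ← h1, ← mul_assoc (P : Module.End ℂ W),
        Units.mul_inv, one_mul, mul_assoc, Units.mul_inv, mul_one]
    simp only [Units.val_mul, ← mul_assoc, h1]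
    rw [mul_assoc (P : Module.End ℂ W), ha.2]
    simp only [mul_smul_comm, smul_mul_assoc, mul_assoc, h2]
    rfl

section

variable [σ.IsIrreducible] (hodd : Odd (Nat.card K))

/-- The transport of twisting operators along an automorphism fixing `σ`. -/
noncomputable def gam (α : MulAut K) (hα : (∀ x ∈ L, α x ∈ L) ∧
    ∀ k, σ.character (α k) = σ.character k) : tw L σ hodd →* tw L σ hodd :=
  (((MulAut.conj (exists_intw α hα.2).choose).toMonoidHom.comp (tw L σ hodd).subtype)).codRestrict _
    fun a => ⟨by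
      obtain ⟨lam, ha⟩ := a.2.1
      exact ⟨_, (exists_intw α hα.2).choose_spec.twist hα.1 ha⟩, by
      show ((MulAut.conj _) (a : (Module.End ℂ W)ˣ)) ^ _ = 1
      rw [← map_pow, a.2.2, map_one]⟩

theorem coe_gam (α : MulAut K) (hα : (∀ x ∈ L, α x ∈ L) ∧
    ∀ k, σ.character (α k) = σ.character k) {P : (Module.End ℂ W)ˣ} (hP : Intw σ α P)
    (a : tw L σ hodd) :
    ((gam hodd α hα a : tw L σ hodd) : (Module.End ℂ W)ˣ) = P * a * P⁻¹ :=
  (exists_intw α hα.2).choose_spec.conj_eq hP _

theorem z_gam (α : MulAut K) (hα : (∀ x ∈ L, α x ∈ L) ∧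
    ∀ k, σ.character (α k) = σ.character k) (a b : tw L σ hodd) :
    Retraction.z (data hodd) (gam hodd α hα a) (gam hodd α hα b) =
      Retraction.z (data hodd) a b := by
  refine Retraction.z_eq _ ?_
  rw [← map_mul, ← map_mul, Retraction.z_spec (data hodd) a b, map_mul _ (scTw hodd _)]
  congr 1
  exact Subtype.ext (by
    rw [coe_gam hodd α hα (exists_intw α hα.2).choose_spec, coe_scTw, sc_comm,
      mul_inv_cancel_right])

theorem gam_scTw (α : MulAut K) (hα : (∀ x ∈ L, α x ∈ L) ∧
    ∀ k, σ.character (α k) = σ.character k) (c : rootsOfUnity (Nat.card K) ℂ) :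
    gam (L := L) (σ := σ) hodd α hα (scTw hodd c) = scTw hodd c :=
  Subtype.ext (by
    rw [coe_gam hodd α hα (exists_intw α hα.2).choose_spec, coe_scTw, sc_comm,
      mul_inv_cancel_right])

/-- Retractions composed with transports are retractions. -/
theorem isRet_comp (α : MulAut K) (hα : (∀ x ∈ L, α x ∈ L) ∧
    ∀ k, σ.character (α k) = σ.character k) {r : tw L σ hodd → ℂˣ}
    (hr : Retraction.IsRet (data hodd) r) :
    Retraction.IsRet (data hodd) (fun a => r (gam hodd α hα a)) := by
  refine ⟨fun a b => ?_, fun c => ?_⟩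
  · simp only [map_mul, hr.map_mul, z_gam, Retraction.hlf]
  · simp only [gam_scTw, hr.map_scalar]

end

end Cfsg.Agent.Lib.BC78.Parity
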