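import Cfsg.Agent.Lib.BC78.Parity.Antipode

/-!
# Construction of the antipode
-/

set_option autoImplicit false

namespace Cfsg.Agent.Lib.BC78.Parity

open Cfsg.Agent.Lib.Clifford

universe u v w w'

variable {K : Type u} [Group K] [Fintype K] {L : Subgroup K} [hLn : L.Normal] [Fintype L]
  {W : Type w} [AddCommGroup W] [Module ℂ W] [FiniteDimensional ℂ W] {U : Type w'}
  [AddCommGroup U] [Module ℂ U] [FiniteDimensional ℂ U] {S : Type v} [Group S] [Finite S]
  {σ : Representation ℂ K W} {τ : Representation ℂ L U} {act : S →* MulAut K} {e : ℕ}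

omit [FiniteDimensional ℂ U] in
theorem Setting.adm_act (hs : Setting L σ τ act e) (s : S) :
    (∀ x ∈ L, act s x ∈ L) ∧ ∀ k, σ.character (act s k) = σ.character k :=
  ⟨hs.stab s, hs.inv s⟩

/-- The retractions form a set with an action. -/
def Ret [σ.IsIrreducible] (hodd : Odd (Nat.card K)) : Type w :=
  {r : tw L σ hodd → ℂˣ // Retraction.IsRet (data hodd) r}

/-- The characters of the twisting group trivial on the scalars. -/
noncomputable def dualTw [σ.IsIrreducible] (hodd : Odd (Nat.card K)) :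
    Subgroup (tw L σ hodd →* ℂˣ) where
  carrier := {d | ∀ c, d (scTw hodd c) = 1}
  one_mem' := fun _ => rfl
  mul_mem' := fun {d d'} h h' c => by rw [MonoidHom.mul_apply, h c, h' c, one_mul]
  inv_mem' := fun {d} h c => by rw [MonoidHom.inv_apply, h c, inv_one]

/-- The unique invariant retraction. -/
theorem exists_inv_ret [σ.IsIrreducible] (hs : Setting L σ τ act e) :
    ∃ r : tw L σ hs.odd → ℂˣ, Retraction.IsRet (data hs.odd) r ∧
      ∀ α : MulAut K, ∀ ha : Adm L σ act α, ∀ a,
        r (gam hs.odd α ⟨ha.stab, ha.inv⟩ a) = r a := by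
  classical
  haveI := finite_tw (L := L) (σ := σ) hs.odd
  let hodd := hs.odd
  let D := data (L := L) (σ := σ) hodd
  let γ : S → tw L σ hodd →* tw L σ hodd := fun s => gam hodd (act s) (hs.adm_act s)
  have hγ1 : ∀ a, γ 1 a = a := fun a => Subtype.ext (by
    rw [coe_gam hodd _ _ (P := 1) (fun k => by simp)]
    simp)
  have hγmul : ∀ s t a, γ (s * t) a = γ s (γ t a) := fun s t a => Subtype.ext (by
    obtain ⟨P, hP⟩ := exists_intw (σ := σ) (act s) (hs.inv s)
    obtain ⟨Q, hQ⟩ := exists_intw (σ := σ) (act t) (hs.inv t)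
    rw [coe_gam hodd _ _ (P := P * Q) (by rw [map_mul]; exact hP.mul hQ), coe_gam hodd _ _ hP,
      coe_gam hodd _ _ hQ]
    simp [mul_assoc])
  letI : MulAction (dualTw (L := L) (σ := σ) hodd) (Ret (L := L) (σ := σ) hodd) :=
    { smul := fun d r => ⟨fun a => (d : tw L σ hodd →* ℂˣ) a * r.1 a, fun a b => by
          rw [map_mul, r.2.map_mul]
          simp only [mul_comm, mul_left_comm, mul_assoc], fun c => by
          rw [d.2 c, r.2.map_scalar, one_mul]⟩
      one_smul := fun r => Subtype.ext (funext fun a => by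
        show (1 : ℂˣ) * r.1 a = r.1 a
        rw [one_mul])
      mul_smul := fun d d' r => Subtype.ext (funext fun a => by
        show (d.1 * d'.1) a * r.1 a = d.1 a * (d'.1 a * r.1 a)
        rw [MonoidHom.mul_apply, mul_assoc]) }
  letI : MulAction S (Ret (L := L) (σ := σ) hodd) :=
    { smul := fun s r => ⟨fun a => r.1 (γ s⁻¹ a), isRet_comp hodd _ _ r.2⟩
      one_smul := fun r => Subtype.ext (funext fun a => by
        show r.1 (γ (1 : S)⁻¹ a) = r.1 a
        rw [inv_one, hγ1])
      mul_smul := fun s t r => Subtype.ext (funext fun a => by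
        show r.1 (γ (s * t)⁻¹ a) = r.1 (γ t⁻¹ (γ s⁻¹ a))
        rw [mul_inv_rev, hγmul]) }
  let sA : S →* MulAut (dualTw (L := L) (σ := σ) hodd) :=
    MonoidHom.mk'
      (fun s => MulEquiv.mk'
        { toFun := fun d => ⟨(d : tw L σ hodd →* ℂˣ).comp (γ s⁻¹), fun c => by
            rw [MonoidHom.comp_apply, show γ s⁻¹ (scTw hodd c) = scTw hodd c from
              gam_scTw hodd _ _ c, d.2 c]⟩
          invFun := fun d => ⟨(d : tw L σ hodd →* ℂˣ).comp (γ s), fun c => by
            rw [MonoidHom.comp_apply, show γ s (scTw hodd c) = scTw hodd c from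
              gam_scTw hodd _ _ c, d.2 c]⟩
          left_inv := fun d => Subtype.ext (MonoidHom.ext fun a => by
            simp only [MonoidHom.comp_apply, ← hγmul, inv_mul_cancel, hγ1])
          right_inv := fun d => Subtype.ext (MonoidHom.ext fun a => by
            simp only [MonoidHom.comp_apply, ← hγmul, mul_inv_cancel, hγ1]) }
        fun d d' => rfl)
      fun s t => MulEquiv.ext fun d => Subtype.ext (MonoidHom.ext fun a => by
        show d.1 (γ (s * t)⁻¹ a) = d.1 (γ t⁻¹ (γ s⁻¹ a))
        rw [mul_inv_rev, hγmul])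
  have hcomp : ∀ (s : S) (d : dualTw (L := L) (σ := σ) hodd)
      (r : Ret (L := L) (σ := σ) hodd), s • d • r = sA s d • s • r :=
    fun s d r => rfl
  have hN : ∀ d : dualTw (L := L) (σ := σ) hodd, d ^ Nat.card K = 1 := fun d =>
    Subtype.ext (MonoidHom.ext fun a => by
      show (d.1 a) ^ Nat.card K = 1
      rw [← map_pow, D.exp, map_one])
  have htr : ∀ r r' : Ret (L := L) (σ := σ) hodd, ∃ d : dualTw (L := L) (σ := σ) hodd,
      r' = d • r := by
    intro r r'
    refine ⟨⟨MonoidHom.mk' (fun a => r'.1 a * (r.1 a)⁻¹) fun a b => ?_, fun c => ?_⟩,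
      Subtype.ext (funext fun a => ?_)⟩
    · rw [r'.2.map_mul, r.2.map_mul]
      simp only [mul_inv_rev]
      apply Additive.ofMul.injective
      simp only [ofMul_mul, ofMul_inv]
      abel
    · show r'.1 _ * (r.1 _)⁻¹ = 1
      rw [r'.2.map_scalar, r.2.map_scalar, mul_inv_cancel]
    · show r'.1 a = r'.1 a * (r.1 a)⁻¹ * r.1 a
      rw [inv_mul_cancel_right]
  obtain ⟨r₀, hr₀⟩ := Retraction.exists_ret D
  let x₀ : Ret (L := L) (σ := σ) hodd := ⟨r₀, hr₀⟩
  obtain ⟨d, hd⟩ := Torsor.exists_fixed sA hcomp hN hs.cop x₀ fun s => htr x₀ (s • x₀)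
  have hlamfix : ∀ lam : K →* ℂˣ, (∀ x ∈ L, lam x = 1) → (∀ s k, lam (act s k) = lam k) →
      lam = 1 := by
    intro lam hL hS
    refine MonoidHom.ext fun k => ?_
    letI := Fintype.ofFinite S
    letI : CommGroup (K ⧸ L) :=
      { (inferInstance : Group (K ⧸ L)) with
        mul_comm := fun a b => by
          induction a using QuotientGroup.induction_on with
          | H a => induction b using QuotientGroup.induction_on with
            | H b =>
              rw [← QuotientGroup.mk_mul, ← QuotientGroup.mk_mul, QuotientGroup.eq]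
              have h := hs.comm b⁻¹ a⁻¹
              simpa [mul_assoc] using h }
    let lbar : K ⧸ L →* ℂˣ := QuotientGroup.lift L lam fun x hx => hL x hx
    obtain ⟨p, hp⟩ := QuotientGroup.mk_surjective (∏ s, ((act s k : K) : K ⧸ L))
    have hpL : p ∈ L := hs.fpf p fun t => by
      rw [← QuotientGroup.eq_one_iff, QuotientGroup.mk_mul, QuotientGroup.mk_inv, mul_inv_eq_one,
        hp]
      let act' : K ⧸ L →* K ⧸ L := QuotientGroup.map L L (act t).toMonoidHom fun x hx => hs.stab t x hx
      have h2 : ((act t p : K) : K ⧸ L) = act' (p : K ⧸ L) := rfl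
      rw [h2, hp, map_prod]
      exact Fintype.prod_equiv (Equiv.mulLeft t) _ _ fun s => by
        simp [act', MulAut.mul_apply]
    have h1 := congrArg lbar hp.symm
    rw [map_prod, show lbar (p : K ⧸ L) = lam p from rfl, hL p hpL] at h1
    have h2 : lam k ^ Nat.card S = 1 := by
      rw [← h1, show (∏ s, lbar ((act s k : K) : K ⧸ L)) = ∏ _s : S, lam k from
        Finset.prod_congr rfl fun s _ => hS s k, Finset.prod_const, Finset.card_univ,
        Nat.card_eq_fintype_card]
    have h3 : lam k ^ Nat.card K = 1 := by rw [← map_pow, pow_card_eq_one', map_one]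
    rw [MonoidHom.one_apply, ← pow_one (lam k)]
    have h4 : orderOf (lam k) ∣ Nat.gcd (Nat.card K) (Nat.card S) :=
      Nat.dvd_gcd (orderOf_dvd_of_pow_eq_one h3) (orderOf_dvd_of_pow_eq_one h2)
    rw [hs.cop.gcd_eq_one] at h4
    exact orderOf_dvd_iff_pow_eq_one.1 h4
  have hfixA : ∀ d : dualTw (L := L) (σ := σ) hodd, (∀ s, sA s d = d) → d = 1 := by
    intro d hd
    refine Subtype.ext (MonoidHom.ext fun a => ?_)
    letI := Fintype.ofFinite S
    let P : tw L σ hodd := (Finset.univ.toList.map fun s => γ s a).prod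
    have hlam : lamHom hodd P = 1 := by
      have hlamP : lamHom hodd P = ∏ s, lamHom hodd (γ s a) := by
        rw [map_list_prod, List.map_map, ← Finset.prod_map_toList]
        rfl
      have hγlam : ∀ s k, (lamHom hodd (γ s a)) (act s k) = (lamHom hodd a) k := fun s k => by
        obtain ⟨Q, hQ⟩ := exists_intw (σ := σ) (act s) (hs.inv s)
        have h := hQ.twist (hs.stab s) (lamHom_spec hodd a)
        rw [← coe_gam hodd (act s) (hs.adm_act s) hQ] at h
        have := Rep.nontrivial_of_irreducible σ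
        rw [(lamHom_spec hodd (γ s a)).unique h]
        simp
      refine hlamfix _ (lamHom_spec hodd P).1 fun t k => ?_
      rw [hlamP, MonoidHom.finsetProd_apply, MonoidHom.finsetProd_apply]
      refine (Fintype.prod_equiv (Equiv.mulLeft t) _ _ fun s => ?_).symm
      have e1 := hγlam (t * s) ((act s).symm k)
      have e2 := hγlam s ((act s).symm k)
      rw [MulEquiv.apply_symm_apply] at e2
      simp only [map_mul, MulAut.mul_apply, MulEquiv.apply_symm_apply] at e1
      exact e2.trans e1.symm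
    have h := lamHom_spec hodd P
    rw [hlam] at h
    obtain ⟨c, hc⟩ := exists_scTw hodd P h
    have h1 : d.1 P = 1 := by rw [hc]; exact d.2 c
    have h2 : ∀ s, d.1 (γ s a) = d.1 a := fun s => by
      have h2 := DFunLike.congr_fun (congrArg Subtype.val (hd s⁻¹)) a
      exact (by rwa [show (sA s⁻¹ d).1 a = d.1 (γ s⁻¹⁻¹ a) from rfl, inv_inv] at h2)
    rw [map_list_prod, List.map_map, show (⇑d.1 ∘ fun s => γ s a) = fun _ => d.1 a from funext h2,
      List.map_const', List.prod_replicate, Finset.length_toList, Finset.card_univ,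
      ← Nat.card_eq_fintype_card] at h1
    have h3 : orderOf (d.1 a) ∣ Nat.gcd (Nat.card K) (Nat.card S) :=
      Nat.dvd_gcd (orderOf_dvd_of_pow_eq_one (by rw [← map_pow, D.exp, map_one]))
        (orderOf_dvd_of_pow_eq_one h1)
    rw [hs.cop.gcd_eq_one] at h3
    rw [← pow_one (d.1 a)]
    exact orderOf_dvd_iff_pow_eq_one.1 h3
  refine ⟨(d • x₀).1, (d • x₀).2, fun α ha a => ?_⟩
  let y : Ret (L := L) (σ := σ) hodd :=
    ⟨fun b => (d • x₀).1 (gam hodd α ⟨ha.stab, ha.inv⟩ b), isRet_comp hodd _ _ (d • x₀).2⟩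
  have hy : ∀ s : S, s • y = y := fun s => Subtype.ext (funext fun b => by
    show (d • x₀).1 (gam hodd α _ (γ s⁻¹ b)) = (d • x₀).1 (gam hodd α _ b)
    obtain ⟨l, hl, hcm⟩ := ha.comm s⁻¹
    have hswap : gam hodd α ⟨ha.stab, ha.inv⟩ (γ s⁻¹ b) =
        γ s⁻¹ (gam hodd α ⟨ha.stab, ha.inv⟩ b) := Subtype.ext (by
      obtain ⟨P, hP⟩ := exists_intw (σ := σ) α ha.inv
      obtain ⟨Q, hQ⟩ := exists_intw (σ := σ) (act s⁻¹) (hs.inv _)
      have hl' : IsUnit (σ l) := by
        refine ⟨⟨σ l, σ l⁻¹, ?_, ?_⟩, rfl⟩ <;> rw [← map_mul] <;> simp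
      obtain ⟨Lu, hLu⟩ := hl'
      have hLinn : Intw σ (MulAut.conj l) Lu := fun k => by
        rw [hLu, MulAut.conj_apply, ← map_mul, ← map_mul, inv_mul_cancel_right]
      have hcommb : Lu * (Q * b * Q⁻¹) = Q * b * Q⁻¹ * Lu := by
        refine Units.ext ?_
        obtain ⟨lam, hb⟩ := b.2.1
        have h := (hQ.twist (hs.stab _) hb).commute hl
        rw [Units.val_mul Lu, Units.val_mul _ Lu, hLu]
        exact h.symm
      have hconj : (P * Lu * Q) * b * (P * Lu * Q)⁻¹ = P * (Q * b * Q⁻¹) * P⁻¹ := by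
        calc (P * Lu * Q) * b * (P * Lu * Q)⁻¹
            = P * (Lu * (Q * b * Q⁻¹)) * Lu⁻¹ * P⁻¹ := by
              simp only [mul_inv_rev, mul_assoc]
          _ = P * (Q * b * Q⁻¹) * P⁻¹ := by
              rw [hcommb]
              simp only [mul_assoc, mul_inv_cancel_left]
      have hα : Intw σ (act s⁻¹ * α) (P * Lu * Q) := by
        rw [show act s⁻¹ * α = α * MulAut.conj l * act s⁻¹ from MulEquiv.ext fun k => by
          simp only [MulAut.mul_apply, MulAut.conj_apply, hcm]]
        exact (hP.mul hLinn).mul hQ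
      rw [coe_gam hodd α _ hP, coe_gam hodd _ _ hQ, coe_gam hodd _ _ hQ, coe_gam hodd α _ hP,
        ← hconj, hα.conj_eq (hQ.mul hP)]
      simp [mul_assoc])
    rw [hswap]
    exact congrFun (congrArg Subtype.val (hd s)) _)
  obtain ⟨d', hd'⟩ := htr (d • x₀) y
  have h := Torsor.fixed_unique sA hcomp hN hs.cop hfixA hd (a := d') (fun s => by rw [← hd']; exact hy s)
  rw [← hd'] at h
  exact congrFun (congrArg Subtype.val h) a

end Cfsg.Agent.Lib.BC78.Parity
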