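import Cfsg.Agent.Lib.BC78.Parity.Fourier
import Mathlib.GroupTheory.QuotientGroup.Basic

/-!
# The norm of the signed restriction

For an involution `J` of a representation `ρ` of `X` commuting with `H` and inverting `K / L` on the
commutant of `L`, the class function `h ↦ tr (J ρ h)` of `H` has the norm of the character of `ρ`
and differs from the restriction by twice a character.
-/

set_option autoImplicit false

namespace Cfsg.Agent.Lib.BC78.Parity.Trace

open scoped ComplexConjugate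
open Cfsg.Agent.Lib.Characters Cfsg.Agent.Lib.Induced.Basic

universe u v

variable {X : Type u} [Group X] [Fintype X] {V : Type v} [AddCommGroup V] [Module ℂ V]
  [FiniteDimensional ℂ V] (ρ : Representation ℂ X V)

/-- The hypotheses on the subgroups and the operator. -/
structure Setting (K L H : Subgroup X) (J : Module.End ℂ V) : Prop where
  odd : Odd (Nat.card X)
  normK : K.Normal
  normL : L.Normal
  le : L ≤ K
  comm : ∀ a ∈ K, ∀ b ∈ K, a * b * a⁻¹ * b⁻¹ ∈ L
  inf : K ⊓ H = L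
  sup : ∀ x : X, ∃ h ∈ H, ∃ k ∈ K, x = h * k
  sq : J * J = 1
  commH : ∀ h ∈ H, J * ρ h = ρ h * J
  commEnd : ∀ x : Module.End ℂ V, (∀ g, x * ρ g = ρ g * x) → J * x = x * J
  invert : ∀ j ∈ K, ∀ x : Module.End ℂ V, (∀ l ∈ L, x * ρ l = ρ l * x) →
    ρ j * J * ρ j * J * x = x * (ρ j * J * ρ j * J)

variable {ρ} {K L H : Subgroup X} {J : Module.End ℂ V} (hs : Setting ρ K L H J)

/-- Conjugation by `ρ g`. -/
def Ad (ρ : Representation ℂ X V) (g : X) : Module.End ℂ (Module.End ℂ V) :=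
  LinearMap.mulLeft ℂ (ρ g) * LinearMap.mulRight ℂ (ρ g⁻¹)

omit [Fintype X] [FiniteDimensional ℂ V] in
theorem Ad_apply (g : X) (x : Module.End ℂ V) : Ad ρ g x = ρ g * x * ρ g⁻¹ := by
  simp [Ad, mul_assoc]

omit [Fintype X] [FiniteDimensional ℂ V] in
theorem Ad_mul (g g' : X) : Ad ρ (g * g') = Ad ρ g * Ad ρ g' := LinearMap.ext fun x => by
  simp [Ad_apply, mul_assoc, map_mul]

omit [Fintype X] [FiniteDimensional ℂ V] in
theorem Ad_one : Ad ρ 1 = 1 := LinearMap.ext fun x => by simp [Ad_apply]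

/-- Conjugation by `J`. -/
def AdJ (J : Module.End ℂ V) : Module.End ℂ (Module.End ℂ V) :=
  LinearMap.mulLeft ℂ J * LinearMap.mulRight ℂ J

omit [Fintype X] [FiniteDimensional ℂ V] in
theorem AdJ_apply (x : Module.End ℂ V) : AdJ J x = J * x * J := by simp [AdJ, mul_assoc]

omit [Fintype X] in
theorem trace_AdJ_Ad (g : X) :
    LinearMap.trace ℂ _ (AdJ J * Ad ρ g) =
      LinearMap.trace ℂ V (J * ρ g) * LinearMap.trace ℂ V (ρ g⁻¹ * J) := by
  rw [← Fourier.trace_sandwich]
  refine congrArg _ (LinearMap.ext fun x => ?_)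
  simp [Ad_apply, AdJ_apply, mul_assoc]

include hs in
/-- The trace is constant along `K` after averaging over `L`. -/
theorem key [Fintype L] (h : X) (hh : h ∈ H) (k : X) (hk : k ∈ K) :
    LinearMap.trace ℂ _ (AdJ J * Ad ρ (h * k) * ∑ l : L, Ad ρ (l : X)) =
      LinearMap.trace ℂ _ (AdJ J * Ad ρ h * ∑ l : L, Ad ρ (l : X)) := by
  classical
  let P : Module.End ℂ (Module.End ℂ V) := ∑ l : L, Ad ρ (l : X)
  let G : X → ℂ := fun k => LinearMap.trace ℂ _ (AdJ J * Ad ρ (h * k) * P)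
  have hPl : ∀ l ∈ L, Ad ρ l * P = P := fun l hl => by
    simp only [P, Finset.mul_sum, ← Ad_mul]
    exact Fintype.sum_equiv (Equiv.mulLeft (⟨l, hl⟩ : L)) _ _ fun m => rfl
  have hPj : ∀ j : X, P * Ad ρ j = Ad ρ j * P := fun j => by
    haveI := hs.normL
    simp only [P, Finset.mul_sum, Finset.sum_mul, ← Ad_mul]
    refine (Fintype.sum_equiv (MulAut.conjNormal j : MulAut L).toEquiv _ _ fun m => ?_).symm
    simp [mul_assoc]
  have hrange : ∀ x : Module.End ℂ V, ∀ l ∈ L, ∀ g : X,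
      Ad ρ g (P x) * ρ l = ρ l * Ad ρ g (P x) := by
    intro x l hl g
    have h1 : Ad ρ l (Ad ρ g (P x)) = Ad ρ g (P x) := by
      rw [← Module.End.mul_apply (Ad ρ g) P, ← Module.End.mul_apply (Ad ρ l), ← hPj, ← mul_assoc,
        hPl l hl]
    conv_lhs => rw [← h1, Ad_apply, mul_assoc _ (ρ l⁻¹), ← map_mul, inv_mul_cancel, map_one,
      mul_one]
  have hswap : ∀ j ∈ K, ∀ g : X, Ad ρ j * AdJ J * (Ad ρ g * P) =
      AdJ J * Ad ρ j⁻¹ * (Ad ρ g * P) := by
    intro j hj g
    refine LinearMap.ext fun x => ?_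
    simp only [Module.End.mul_apply]
    have hy := hs.invert j hj (Ad ρ g (P x)) fun l hl => hrange x l hl g
    set y := Ad ρ g (P x)
    simp only [AdJ_apply, Ad_apply, inv_inv]
    calc ρ j * (J * y * J) * ρ j⁻¹
        = J * ρ j⁻¹ * (ρ j * J * ρ j * J * y) * J * ρ j⁻¹ := by
          simp only [← mul_assoc]
          rw [mul_assoc J (ρ j⁻¹), ← map_mul, inv_mul_cancel, map_one, mul_one, hs.sq, one_mul]
      _ = J * ρ j⁻¹ * (y * (ρ j * J * ρ j * J)) * J * ρ j⁻¹ := by rw [hy]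
      _ = J * (ρ j⁻¹ * y * ρ j) * J := by
          simp only [← mul_assoc]
          rw [mul_assoc _ J J, hs.sq, mul_one, mul_assoc _ (ρ j) (ρ j⁻¹), ← map_mul, mul_inv_cancel,
            map_one, mul_one]
  have hstep : ∀ j ∈ K, ∀ m : X, G m = G (h⁻¹ * j⁻¹ * h * m * j⁻¹) := by
    intro j hj m
    simp only [G]
    calc LinearMap.trace ℂ _ (AdJ J * Ad ρ (h * m) * P)
        = LinearMap.trace ℂ _ (Ad ρ j * (AdJ J * Ad ρ (h * m) * P) * Ad ρ j⁻¹) := by
          rw [LinearMap.trace_mul_cycle ℂ (Ad ρ j) (AdJ J * Ad ρ (h * m) * P) (Ad ρ j⁻¹),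
            ← Ad_mul, inv_mul_cancel, Ad_one, one_mul]
      _ = _ := by
          rw [mul_assoc (AdJ J) (Ad ρ (h * m)) P, ← mul_assoc (Ad ρ j) (AdJ J), hswap j hj,
            mul_assoc (AdJ J * Ad ρ j⁻¹), mul_assoc (Ad ρ (h * m)) P, hPj,
            mul_assoc (AdJ J) (Ad ρ j⁻¹), ← mul_assoc (Ad ρ (h * m)), ← mul_assoc (Ad ρ j⁻¹),
            ← mul_assoc (AdJ J), ← Ad_mul, ← Ad_mul]
          simp only [mul_assoc, mul_inv_cancel_left]
  have hL : ∀ m : X, ∀ l ∈ L, G (m * l) = G m := fun m l hl => by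
    simp only [G]
    rw [← mul_assoc h, Ad_mul, mul_assoc, mul_assoc, hPl l hl, ← mul_assoc]
  -- the map on the quotient
  haveI := hs.normL
  haveI := hs.normK
  let L' : Subgroup K := L.subgroupOf K
  let c : MulAut K := MulAut.conjNormal h⁻¹
  let ψ : K ⧸ L' →* K ⧸ L' := QuotientGroup.map L' L' c.toMonoidHom fun x hx => by
    show ((c x : K) : X) ∈ L
    rw [MulAut.conjNormal_apply]
    exact hs.normL.conj_mem _ hx _
  have hcomm : ∀ a b : K ⧸ L', a * b = b * a := by
    intro a b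
    induction a using QuotientGroup.induction_on with
    | H a => induction b using QuotientGroup.induction_on with
      | H b =>
        rw [← QuotientGroup.mk_mul, ← QuotientGroup.mk_mul, QuotientGroup.eq]
        show ((a * b)⁻¹ * (b * a) : X) ∈ L
        simpa [mul_assoc] using hs.comm _ (K.inv_mem b.2) _ (K.inv_mem a.2)
  have hq2 : ∀ q : K ⧸ L', q * q = 1 → q = 1 := by
    intro q hq
    have h1 : orderOf q ∣ 2 := orderOf_dvd_of_pow_eq_one (by rw [pow_two, hq])
    have h2 : orderOf q ∣ Nat.card X := (orderOf_dvd_natCard q).trans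
      ((L'.card_quotient_dvd_card).trans K.card_subgroup_dvd_card)
    rcases (Nat.dvd_prime Nat.prime_two).1 h1 with h3 | h3
    · exact orderOf_eq_one_iff.1 h3
    · exact absurd (h3 ▸ h2) hs.odd.not_two_dvd_nat
  let T : K ⧸ L' → K ⧸ L' := fun q => (ψ q)⁻¹ * q⁻¹
  have hT : Function.Injective T := by
    intro q q' hqq
    have ht : ψ (q * q'⁻¹) = (q * q'⁻¹)⁻¹ := by
      simp only [T] at hqq
      calc ψ (q * q'⁻¹) = ψ q * ((ψ q')⁻¹ * q'⁻¹) * q' := by
            rw [map_mul, map_inv, mul_assoc (ψ q), inv_mul_cancel_right]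
        _ = ψ q * ((ψ q)⁻¹ * q⁻¹) * q' := by rw [← hqq]
        _ = (q * q'⁻¹)⁻¹ := by rw [mul_inv_cancel_left, mul_inv_rev, inv_inv, hcomm]
    set t := q * q'⁻¹
    have hiter : ∀ n : ℕ, ψ^[2 * n] t = t := fun n => by
      induction n with
      | zero => rfl
      | succ n ih =>
        rw [Nat.mul_succ, Function.iterate_add_apply, show ψ^[2] t = ψ (ψ t) from rfl, ht, map_inv,
          ht, inv_inv, ih]
    have hfull : ∀ n : ℕ, ∀ x : K, ψ^[n] (x : K ⧸ L') = (((MulAut.conjNormal ((h⁻¹) ^ n) : MulAut K) x : K) : K ⧸ L') := by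
      intro n x
      induction n generalizing x with
      | zero => simp
      | succ n ih =>
        rw [Function.iterate_succ_apply, show ψ (x : K ⧸ L') = ((c x : K) : K ⧸ L') from rfl, ih,
          pow_succ, map_mul]
        rfl
    obtain ⟨x, hx⟩ := QuotientGroup.mk_surjective t
    obtain ⟨m, hm⟩ := hs.odd
    have h1 : ψ^[2 * m + 1] t = t := by
      rw [← hx, hfull, ← hm, pow_card_eq_one', map_one, MulAut.one_apply]
    rw [Function.iterate_succ_apply, ht, show t⁻¹ = ψ t from ht.symm,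
      ← Function.iterate_succ_apply ψ (2 * m), Function.iterate_succ_apply', hiter m, ht] at h1
    have h2 : t = 1 := hq2 t (by
      conv_lhs => arg 1; rw [← h1]
      exact inv_mul_cancel t)
    exact mul_inv_eq_one.1 h2
  obtain ⟨q, hq⟩ := (Finite.injective_iff_surjective.1 hT) ((⟨k, hk⟩ : K) : K ⧸ L')
  obtain ⟨j, rfl⟩ := QuotientGroup.mk_surjective q
  have hmem : (h⁻¹ * (j : X)⁻¹ * h * (j : X)⁻¹)⁻¹ * k ∈ L := by
    have h1 : (((c j)⁻¹ * j⁻¹ : K) : K ⧸ L') = ((⟨k, hk⟩ : K) : K ⧸ L') := hq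
    have h2 := QuotientGroup.eq.1 h1
    rw [Subgroup.mem_subgroupOf] at h2
    simpa [c, mul_assoc] using h2
  show G k = LinearMap.trace ℂ _ (AdJ J * Ad ρ h * P)
  calc G k = G (h⁻¹ * (j : X)⁻¹ * h * (j : X)⁻¹) := by
        conv_lhs => rw [← mul_inv_cancel_left (h⁻¹ * (j : X)⁻¹ * h * (j : X)⁻¹) k]
        exact hL _ _ hmem
    _ = G 1 := by rw [hstep j j.2 1, mul_one]
    _ = _ := by simp only [G, mul_one]

include hs in
/-- The norm identity. -/
theorem norm_eq [Fintype H] [Fintype K] [Fintype L] :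
    (Nat.card H : ℂ)⁻¹ * ∑ h : H, LinearMap.trace ℂ V (J * ρ h) *
        LinearMap.trace ℂ V (J * ρ (h : X)⁻¹) =
      (Nat.card X : ℂ)⁻¹ * ∑ g : X, ρ.character g * ρ.character g⁻¹ := by
  classical
  let F : X → ℂ := fun g => LinearMap.trace ℂ _ (AdJ J * Ad ρ g)
  have hF : ∀ g : X, F g = LinearMap.trace ℂ V (J * ρ g) * LinearMap.trace ℂ V (J * ρ g⁻¹) :=
    fun g => by
      simp only [F]
      rw [trace_AdJ_Ad, LinearMap.trace_mul_comm ℂ (ρ g⁻¹) J]
  have htot : ∑ g, F g = ∑ g : X, ρ.character g * ρ.character g⁻¹ := by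
    have e : AdJ J * ∑ g, Ad ρ g = ∑ g, Ad ρ g := LinearMap.ext fun x => by
      rw [Module.End.mul_apply, AdJ_apply, hs.commEnd ((∑ g, Ad ρ g) x) fun m => ?_, mul_assoc,
        hs.sq, mul_one]
      simp only [LinearMap.sum_apply, Ad_apply, Finset.sum_mul, Finset.mul_sum]
      refine (Fintype.sum_equiv (Equiv.mulLeft m) _ _ fun g => ?_).symm
      simp only [Equiv.coe_mulLeft, map_mul, mul_inv_rev, mul_assoc]
      rw [← map_mul ρ m⁻¹, inv_mul_cancel, map_one, mul_one]
    simp only [F, ← map_sum, ← Finset.mul_sum, e]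
    simp only [map_sum, Ad, Fourier.trace_sandwich]
    rfl
  let f : H × K → X := fun p => (p.1 : X) * p.2
  have hfib : ∀ φ : X → ℂ, ∑ h : H, ∑ k : K, φ (h * k) = (Nat.card L : ℂ) * ∑ g, φ g := by
    intro φ
    rw [← Fintype.sum_prod_type' (f := fun (h : H) (k : K) => φ (h * k)), ← Finset.sum_fiberwise
      Finset.univ f (fun p => φ ((p.1 : X) * p.2)), Finset.mul_sum]
    refine Finset.sum_congr rfl fun g _ => ?_
    obtain ⟨h₀, hh₀, k₀, hk₀, rfl⟩ := hs.sup g
    have hc : (Finset.univ.filter fun p => f p = h₀ * k₀).card = Nat.card L := by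
      rw [← Fintype.card_subtype, Nat.card_eq_fintype_card]
      refine Fintype.card_congr
        { toFun := fun p => ⟨h₀⁻¹ * p.1.1, hs.inf ▸ ⟨?_, H.mul_mem (H.inv_mem hh₀) p.1.1.2⟩⟩
          invFun := fun l => ⟨(⟨h₀ * l, H.mul_mem hh₀ (hs.inf ▸ l.2 : (l : X) ∈ K ⊓ H).2⟩,
            ⟨(l : X)⁻¹ * k₀, K.mul_mem (K.inv_mem (hs.le l.2)) hk₀⟩), by simp [f, mul_assoc]⟩
          left_inv := fun p => ?_
          right_inv := fun l => ?_ }
      · have h1 : (p.1.1 : X) * p.1.2 = h₀ * k₀ := p.2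
        have h2 : h₀⁻¹ * (p.1.1 : X) = k₀ * (p.1.2 : X)⁻¹ := by
          rw [eq_mul_inv_iff_mul_eq, mul_assoc, h1, inv_mul_cancel_left]
        rw [h2]
        exact K.mul_mem hk₀ (K.inv_mem p.1.2.2)
      · have h1 : (p.1.1 : X) * p.1.2 = h₀ * k₀ := p.2
        refine Subtype.ext (Prod.ext (Subtype.ext (mul_inv_cancel_left _ _)) (Subtype.ext ?_))
        show (h₀⁻¹ * (p.1.1 : X))⁻¹ * k₀ = p.1.2
        rw [mul_inv_rev, inv_inv, mul_assoc, inv_mul_eq_iff_eq_mul]
        exact h1.symm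
      · exact Subtype.ext (inv_mul_cancel_left _ _)
    rw [Finset.sum_congr rfl fun p hp => by
      rw [show ((p.1 : X) * p.2) = h₀ * k₀ from (Finset.mem_filter.1 hp).2],
      Finset.sum_const, hc, nsmul_eq_mul]
  have hL : ∀ h : H, (Nat.card L : ℂ) * ∑ k : K, F (h * k) =
      (Nat.card K : ℂ) * ∑ l : L, F (h * l) := by
    intro h
    have e : ∀ k : X, ∑ l : L, F ((h : X) * k * l) =
        LinearMap.trace ℂ _ (AdJ J * Ad ρ ((h : X) * k) * ∑ l : L, Ad ρ (l : X)) := fun k => by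
      simp only [F, Finset.mul_sum, map_sum, mul_assoc, ← Ad_mul]
    have h1 : ∑ k : K, ∑ l : L, F ((h : X) * k * l) = (Nat.card K : ℂ) * ∑ l : L, F (h * l) := by
      simp only [e]
      rw [Finset.sum_congr rfl fun (k : K) _ => key hs (h : X) h.2 (k : X) k.2, Finset.sum_const,
        Finset.card_univ, ← Nat.card_eq_fintype_card, nsmul_eq_mul]
      congr 1
      have e1 := e 1
      simp only [mul_one] at e1
      rw [e1]
    rw [← h1, Finset.sum_comm]
    have h2 : ∀ l : L, ∑ k : K, F ((h : X) * k * l) = ∑ k : K, F (h * k) := fun l =>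
      Fintype.sum_equiv (Equiv.mulRight (⟨(l : X), hs.le l.2⟩ : K)) _ _ fun k => by
        simp [mul_assoc]
    rw [Finset.sum_congr rfl fun l _ => h2 l, Finset.sum_const, Finset.card_univ,
      ← Nat.card_eq_fintype_card, nsmul_eq_mul]
  have hH : ∑ h : H, ∑ l : L, F ((h : X) * l) = (Nat.card L : ℂ) * ∑ h : H, F h := by
    rw [Finset.sum_comm]
    have h2 : ∀ l : L, ∑ h : H, F ((h : X) * l) = ∑ h : H, F h := fun l =>
      Fintype.sum_equiv (Equiv.mulRight (⟨(l : X), (hs.inf ▸ l.2 : (l : X) ∈ K ⊓ H).2⟩ : H)) _ _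
        fun h => by simp
    rw [Finset.sum_congr rfl fun l _ => h2 l, Finset.sum_const, Finset.card_univ,
      ← Nat.card_eq_fintype_card, nsmul_eq_mul]
  have hcard : (Nat.card H : ℂ) * Nat.card K = Nat.card L * Nat.card X := by
    simpa [Nat.card_eq_fintype_card, mul_comm] using hfib fun _ => 1
  have hmain : (Nat.card L : ℂ) * ((Nat.card L : ℂ) * ∑ g, F g) =
      (Nat.card K : ℂ) * ((Nat.card L : ℂ) * ∑ h : H, F h) := by
    rw [← hfib, ← hH, Finset.mul_sum, Finset.mul_sum]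
    exact Finset.sum_congr rfl fun h _ => hL h
  have hL0 : (Nat.card L : ℂ) ≠ 0 := Nat.cast_ne_zero.mpr Nat.card_pos.ne'
  have hH0 : (Nat.card H : ℂ) ≠ 0 := Nat.cast_ne_zero.mpr Nat.card_pos.ne'
  have hX0 : (Nat.card X : ℂ) ≠ 0 := Nat.cast_ne_zero.mpr Nat.card_pos.ne'
  rw [← htot, show (∑ h : H, LinearMap.trace ℂ V (J * ρ h) *
      LinearMap.trace ℂ V (J * ρ (h : X)⁻¹)) = ∑ h : H, F h from
    Finset.sum_congr rfl fun h _ => (hF (h : X)).symm]
  field_simp
  refine mul_left_cancel₀ (pow_ne_zero 2 hL0) ?_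
  linear_combination -(Nat.card H : ℂ) * hmain - (Nat.card L : ℂ) * (∑ h : H, F h) * hcard

include hs in
/-- The signed restriction differs from the restriction by twice a character. -/
theorem exists_split :
    ∃ ψ : H → ℂ, Cfsg.IsCharacter H ψ ∧
      ∀ h : H, ρ.character (h : X) = LinearMap.trace ℂ V (J * ρ h) + 2 * ψ h := by
  let p : Module.End ℂ V := (2 : ℂ)⁻¹ • (1 - J)
  have hp : ∀ h : H, p * ρ (h : X) = ρ (h : X) * p := fun h => by
    simp only [p, smul_mul_assoc, mul_smul_comm, sub_mul, mul_sub, one_mul, mul_one,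
      hs.commH h h.2]
  have hidem : p * p = p := by
    simp only [p, smul_mul_smul_comm, sub_mul, mul_sub, one_mul, mul_one, hs.sq]
    rw [show (1 : Module.End ℂ V) - J - (J - 1) = (2 : ℂ) • (1 - J) from by
      rw [two_smul]; abel, smul_smul]
    norm_num
  let W : Submodule ℂ V := LinearMap.range p
  let σ : Representation ℂ H W :=
    { toFun := fun h => (ρ (h : X)).restrict (q := W) (p := W) (fun v hv => by
        obtain ⟨w, rfl⟩ := hv
        exact ⟨ρ (h : X) w, LinearMap.congr_fun (hp h) w⟩)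
      map_one' := by ext v; simp
      map_mul' := fun a b => by ext v; simp }
  obtain ⟨τ, ⟨φ⟩⟩ := Basic.exists_fin_equiv σ
  refine ⟨σ.character, ⟨_, τ, (Representation.char_iso φ).symm⟩, fun h => ?_⟩
  have hproj : LinearMap.IsProj W p :=
    ⟨fun x => LinearMap.mem_range_self p x, fun x hx => by
      obtain ⟨w, rfl⟩ := hx
      exact LinearMap.congr_fun hidem w⟩
  have h1 : LinearMap.trace ℂ V (p * ρ (h : X)) = σ.character h := by
    have e : p * ρ (h : X) = W.subtype ∘ₗ ((σ h) ∘ₗ hproj.codRestrict) := by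
      rw [hp h]
      exact LinearMap.ext fun v => rfl
    rw [e, LinearMap.trace_comp_comm', LinearMap.comp_assoc]
    rw [show hproj.codRestrict ∘ₗ W.subtype = LinearMap.id from
      LinearMap.ext fun v => hproj.codRestrict_apply_cod v, LinearMap.comp_id]
    rfl
  rw [← h1]
  simp only [p, smul_mul_assoc, sub_mul, one_mul, map_smul, map_sub, smul_eq_mul]
  show LinearMap.trace ℂ V (ρ (h : X)) = _
  ring

end Cfsg.Agent.Lib.BC78.Parity.Trace
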