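import Cfsg.Agent.Lib.BC78.Parity.Operator
import Cfsg.Agent.Lib.BC78.Parity.Trace
import Cfsg.Agent.Lib.Induced.Generalized
import Cfsg.Agent.Lib.Induced.Character
import Cfsg.Agent.Lib.Clifford.Basic
import Cfsg.Agent.Lib.RelGlauberman.Basic

/-!
# The parity correspondence over an invariant character

`exists_phi`: the signed restriction as a linear map on class functions;
`correspondence`: characters over `θ` correspond to characters over `φ` by odd multiplicity in the
restriction.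
-/

set_option autoImplicit false

namespace Cfsg.Agent.Lib.BC78.Parity.Core

open scoped ComplexConjugate
open Cfsg.Agent.Lib.Induced.Basic Cfsg.Agent.Lib.Characters.Basic Cfsg.Agent.Lib.Characters
open Cfsg.Agent.Lib.Clifford Cfsg.Agent.Lib.Clifford.Basic

universe u v

variable {X : Type u} [Group X] [Fintype X] {S : Type v} [Group S] [Finite S]

/-- The data of the correspondence. -/
structure Data (act : S →* MulAut X) (K L H : Subgroup X) [K.Normal] (φ : Cfsg.IrrCharacter L)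
    (θ : Cfsg.IrrCharacter K) : Prop where
  normL : L.Normal
  le : L ≤ K
  comm : ∀ a ∈ K, ∀ b ∈ K, a * b * a⁻¹ * b⁻¹ ∈ L
  inf : K ⊓ H = L
  sup : ∀ x : X, ∃ h ∈ H, ∃ k ∈ K, x = h * k
  odd : Odd (Nat.card X)
  cop : (Nat.card X).Coprime (Nat.card S)
  stabK : ∀ s, ∀ x ∈ K, act s x ∈ K
  stabL : ∀ s, ∀ x ∈ L, act s x ∈ L
  cent : ∀ s, ∀ h ∈ H, act s h * h⁻¹ ∈ L
  fpf : ∀ k ∈ K, (∀ s, act s k * k⁻¹ ∈ L) → k ∈ L
  res : ∃ e : ℕ, ∀ (l : L) (hl : (l : X) ∈ K),
    (θ : K → ℂ) ⟨l, hl⟩ = e * (φ : L → ℂ) l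
  invS : RelGlauberman.InvOn act K (θ : K → ℂ)
  invX : ∀ x, conjC K x (θ : K → ℂ) = (θ : K → ℂ)

variable {act : S →* MulAut X} {K L H : Subgroup X} [hKn : K.Normal] [Fintype K] [Fintype L]
  [Fintype H] {φ : Cfsg.IrrCharacter L} {θ : Cfsg.IrrCharacter K} (D : Data act K L H φ θ)

include D in
theorem L_le_H : L ≤ H := fun x hx => (D.inf ▸ hx : x ∈ K ⊓ H).2

include D in
/-- The signed restriction. -/
theorem exists_phi :
    ∃ (Φ : (X → ℂ) →ₗ[ℂ] (H → ℂ)) (t : ℂ), t ≠ 0 ∧
      (∀ (χ : X → ℂ) (h : H), (∀ k : K, χ ((k : X) * h) = 0) → Φ χ h = 0) ∧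
      ∀ (χ : X → ℂ), Cfsg.IsCharacter X χ → ∀ m : ℕ, (∀ k : K, χ k = m * (θ : K → ℂ) k) →
        (∃ ψ : H → ℂ, Cfsg.IsCharacter H ψ ∧ (fun h : H => χ h) = Φ χ + (2 : ℕ) • ψ) ∧
        Cfsg.classInner (Φ χ) (Φ χ) = Cfsg.classInner χ χ ∧
        ∀ (l : L) (hl : (l : X) ∈ H), Φ χ ⟨l, hl⟩ = m * t * (φ : L → ℂ) l := by
  classical
  obtain ⟨n, σ, hσ, hσχ⟩ := θ.2
  obtain ⟨n', τ, hτ, hτχ⟩ := φ.2
  obtain ⟨e, he⟩ := D.res
  let L' : Subgroup K := L.subgroupOf K
  haveI := D.normL
  haveI : L'.Normal := inferInstance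
  letI : Fintype L' := Fintype.ofFinite _
  let eL : L' ≃* L := Subgroup.subgroupOfEquivOfLe D.le
  let τ' : Representation ℂ L' (Fin n' → ℂ) := τ.comp eL.toMonoidHom
  haveI := hσ
  haveI hτ' : τ'.IsIrreducible := by
    haveI := hτ
    letI : Fintype L := inferInstance
    exact Basic.isIrreducible_iff_classInner_self τ' |>.2 (by
      have h := Basic.isIrreducible_iff_classInner_self τ |>.1 hτ
      rw [← h]
      simp only [Cfsg.classInner, Nat.card_congr eL.toEquiv]
      congr 1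
      exact Fintype.sum_equiv eL.toEquiv _ _ fun l => rfl)
  let actK : S →* MulAut K := RelGlauberman.restrictAct act K D.stabK
  have hodd : Odd (Nat.card K) := D.odd.of_dvd_nat K.card_subgroup_dvd_card
  have hs : Setting L' σ τ' actK e :=
    { odd := hodd
      comm := fun a b => Subgroup.mem_subgroupOf.2 (D.comm _ a.2 _ b.2)
      irr := hσ
      irrU := hτ'
      iso := fun l => by
        rw [hσχ, show τ'.character l = τ.character (eL l) from rfl, hτχ]
        exact he (eL l) (l : K).2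
      cop := D.cop.coprime_dvd_left K.card_subgroup_dvd_card
      stab := fun s x hx => Subgroup.mem_subgroupOf.2 (D.stabL s _ hx)
      fpf := fun k hk => Subgroup.mem_subgroupOf.2 (D.fpf _ k.2 fun s => hk s)
      inv := fun s k => by
        rw [hσχ]
        exact D.invS s k (actK s k) rfl }
  obtain ⟨J, hJ2, hJL, hJinv, ⟨t, ht0, ht⟩, hJadm⟩ := exists_antipode hs
  let coef : K → ℂ := fun k =>
    (Module.finrank ℂ (Fin n → ℂ) : ℂ) / Nat.card K * LinearMap.trace ℂ _ (J * σ k⁻¹)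
  have hJσ : ∑ k, coef k • σ k = J := by
    conv_rhs => rw [← Fourier.fourier σ J, Finset.smul_sum]
    refine Fintype.sum_equiv (Equiv.inv K) _ _ fun k => ?_
    simp [coef, smul_smul]
  let Φ : (X → ℂ) →ₗ[ℂ] (H → ℂ) :=
    { toFun := fun χ h => ∑ k : K, coef k * χ ((k : X) * h)
      map_add' := fun a b => funext fun h => by simp [mul_add, Finset.sum_add_distrib]
      map_smul' := fun c a => funext fun h => by
        simp only [Pi.smul_apply, smul_eq_mul, RingHom.id_apply, Finset.mul_sum]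
        exact Finset.sum_congr rfl fun k _ => by ring }
  refine ⟨Φ, t, ht0, fun χ h hχ => ?_, ?_⟩
  · show ∑ k : K, coef k * χ ((k : X) * h) = 0
    simp [hχ]
  intro χ hχ m hm
  obtain ⟨d, ρ, rfl⟩ := hχ
  let ρK : Representation ℂ K (Fin d → ℂ) := ρ.comp K.subtype
  have hρK : ∀ k, ρK.character k = m * σ.character k := fun k => by rw [hσχ]; exact hm k
  obtain ⟨E, hE⟩ := Fourier.exists_copies σ ρK hρK
  have inj : Function.Injective E.conj := E.conj.injective
  have hmul : ∀ a b : Module.End ℂ (Fin d → ℂ), E.conj (a * b) = E.conj a * E.conj b :=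
    fun a b => LinearEquiv.conj_comp E b a
  let Jρ : Module.End ℂ (Fin d → ℂ) := ∑ k : K, coef k • ρ (k : X)
  have hEJ : E.conj Jρ = Fourier.pw m J := by
    rw [← hJσ, map_sum, map_sum]
    simp only [map_smul]
    exact Finset.sum_congr rfl fun k _ => congrArg (coef k • ·) (hE k)
  have hs' : Trace.Setting ρ K L H Jρ :=
    { odd := D.odd
      normK := hKn
      normL := D.normL
      le := D.le
      comm := D.comm
      inf := D.inf
      sup := D.sup
      sq := inj (by rw [hmul, hEJ, ← map_mul, hJ2, map_one]; exact (LinearEquiv.conj_id E).symm)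
      commH := fun h hh => by
        have hcoef : ∀ k : K, coef ((MulAut.conjNormal h : MulAut K) k) = coef k := fun k => by
          simp only [coef, ← map_inv]
          congr 1
          refine hJadm _ ⟨fun x hx => ?_, fun k => ?_, fun s => ?_⟩ _
          · rw [Subgroup.mem_subgroupOf] at hx ⊢
            rw [MulAut.conjNormal_apply]
            exact D.normL.conj_mem _ hx h
          · rw [hσχ]
            exact congrFun (D.invX h) k
          · have hl0 := D.cent s h hh
            have hl : h⁻¹ * (act s h * h⁻¹) * h ∈ L := by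
              simpa using D.normL.conj_mem _ hl0 h⁻¹
            refine ⟨⟨_, D.le hl⟩, Subgroup.mem_subgroupOf.2 hl, fun k => Subtype.ext ?_⟩
            simp only [actK, MulAut.conjNormal_apply, Subgroup.coe_mul, Subgroup.coe_inv]
            show act s (h * (k : X) * h⁻¹) =
              h * (h⁻¹ * (act s h * h⁻¹) * h * act s (k : X) * (h⁻¹ * (act s h * h⁻¹) * h)⁻¹) * h⁻¹
            rw [map_mul, map_mul, map_inv]
            group
        simp only [Jρ, Finset.sum_mul, Finset.mul_sum, smul_mul_assoc, mul_smul_comm, ← map_mul]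
        refine (Fintype.sum_equiv (MulAut.conjNormal h : MulAut K).toEquiv _ _ fun k => ?_).symm
        simp only [MulEquiv.toEquiv_eq_coe, EquivLike.coe_coe, hcoef, MulAut.conjNormal_apply,
          inv_mul_cancel_right]
      commEnd := fun x hx => by
        simp only [Jρ, Finset.sum_mul, Finset.mul_sum, smul_mul_assoc, mul_smul_comm, hx]
      invert := fun j hj x hx => by
        obtain ⟨c, hc⟩ := hJinv ⟨j, hj⟩
        have hy : ρ j * Jρ * ρ j * Jρ = ∑ l : L', c l • ρ ((l : K) : X) := by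
          refine inj ?_
          have hj' : E.conj (ρ j) = Fourier.pw m (σ ⟨j, hj⟩) := hE ⟨j, hj⟩
          rw [hmul, hmul, hmul, hEJ, hj', ← map_mul, ← map_mul, ← map_mul, hc, map_sum, map_sum]
          simp only [map_smul]
          exact Finset.sum_congr rfl fun l _ => congrArg (c l • ·) (hE (l : K)).symm
        rw [hy, Finset.sum_mul, Finset.mul_sum]
        refine Finset.sum_congr rfl fun l _ => ?_
        rw [smul_mul_assoc, mul_smul_comm, hx ((l : K) : X) (Subgroup.mem_subgroupOf.1 l.2)] }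
  have hΦ : ∀ h : H, Φ ρ.character h = LinearMap.trace ℂ _ (Jρ * ρ (h : X)) := fun h => by
    simp only [Jρ, Finset.sum_mul, map_sum, smul_mul_assoc, map_smul, ← map_mul, smul_eq_mul]
    rfl
  obtain ⟨ψ, hψ, hsplit⟩ := Trace.exists_split hs'
  have hψeq : (fun h : H => ρ.character (h : X)) = Φ ρ.character + (2 : ℕ) • ψ := funext fun h => by
    rw [hsplit h, Pi.add_apply, hΦ, Pi.smul_apply, nsmul_eq_mul, Nat.cast_ofNat]
  refine ⟨⟨ψ, hψ, hψeq⟩, ?_, fun l hl => ?_⟩
  · have hconj : ∀ h : H, conj (Φ ρ.character h) = LinearMap.trace ℂ _ (Jρ * ρ (h : X)⁻¹) :=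
      fun h => by
        have h1 := hsplit h
        have h2 := hsplit h⁻¹
        rw [Subgroup.coe_inv, apply_inv ⟨d, ρ, rfl⟩, apply_inv hψ, h1, (starRingEnd ℂ).map_add,
          (starRingEnd ℂ).map_mul, map_ofNat (starRingEnd ℂ)] at h2
        rw [hΦ]
        linear_combination h2
    simp only [Cfsg.classInner, hconj]
    simp only [hΦ]
    rw [Trace.norm_eq hs']
    congr 1
    exact Finset.sum_congr rfl fun g _ => by rw [apply_inv (χ := ρ.character) ⟨d, ρ, rfl⟩]
  · rw [hΦ]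
    have hl' : E.conj (ρ (l : X)) = Fourier.pw m (σ ⟨l, D.le l.2⟩) := hE ⟨l, D.le l.2⟩
    show LinearMap.trace ℂ _ (Jρ * ρ (l : X)) = _
    rw [← LinearMap.trace_conj' (Jρ * ρ (l : X)) E, hmul, hEJ, hl', ← map_mul, Fourier.trace_pw,
      ← hτχ]
    have h := ht (eL.symm l)
    rw [show τ'.character (eL.symm l) = τ.character (eL (eL.symm l)) from rfl,
      MulEquiv.apply_symm_apply] at h
    rw [show (⟨(l : X), D.le l.2⟩ : K) = ((eL.symm l : L') : K) from Subtype.ext rfl, h]
    ring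

include D in
/-- The correspondence by parity of the multiplicities. -/
theorem correspondence :
    (∀ χ : Cfsg.IrrCharacter X, Cfsg.classInner (fun k : K => (χ : X → ℂ) k) θ ≠ 0 →
      ∃ ξ : Cfsg.IrrCharacter H, ∀ (ψ : Cfsg.IrrCharacter H) (m : ℕ),
        Cfsg.classInner (fun h : H => (χ : X → ℂ) h) ψ = (m : ℂ) → (Odd m ↔ ψ = ξ)) ∧
    (∀ χ χ' : Cfsg.IrrCharacter X, Cfsg.classInner (fun k : K => (χ : X → ℂ) k) θ ≠ 0 →
      Cfsg.classInner (fun k : K => (χ' : X → ℂ) k) θ ≠ 0 → ∀ (ψ : Cfsg.IrrCharacter H) (m m' : ℕ),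
      Cfsg.classInner (fun h : H => (χ : X → ℂ) h) ψ = (m : ℂ) → Odd m →
      Cfsg.classInner (fun h : H => (χ' : X → ℂ) h) ψ = (m' : ℂ) → Odd m' → χ = χ') ∧
    ∀ ψ : Cfsg.IrrCharacter H,
      Cfsg.classInner ((ψ : H → ℂ) ∘ Subgroup.inclusion (L_le_H D)) φ ≠ 0 →
      ∃ χ : Cfsg.IrrCharacter X, Cfsg.classInner (fun k : K => (χ : X → ℂ) k) θ ≠ 0 ∧
        ∃ m : ℕ, Cfsg.classInner (fun h : H => (χ : X → ℂ) h) ψ = (m : ℂ) ∧ Odd m := by
  classical
  obtain ⟨Φ, t, ht0, hzero, hΦ⟩ := exists_phi D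
  have hmult : ∀ χ : Cfsg.IrrCharacter X, Cfsg.classInner (fun k : K => (χ : X → ℂ) k) θ ≠ 0 →
      ∃ m : ℕ, ∀ k : K, (χ : X → ℂ) k = m * (θ : K → ℂ) k := fun χ hχ => by
    obtain ⟨m, hm⟩ := exists_classInner_nat
      (isCharacter_comp K.subtype (isCharacter_irr χ)) (isCharacter_irr θ)
    have hm' : Cfsg.classInner (fun k : K => (χ : X → ℂ) k) θ = (m : ℂ) := hm
    refine ⟨m, fun k => ?_⟩
    have h := congrFun (restrict_eq_smul K χ.2 θ hχ D.invX) k
    rw [hm'] at h
    exact h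
  have hsign : ∀ χ : Cfsg.IrrCharacter X, Cfsg.classInner (fun k : K => (χ : X → ℂ) k) θ ≠ 0 →
      ∃ (ξ : Cfsg.IrrCharacter H) (ε : ℂ), (ε = 1 ∨ ε = -1) ∧ Φ χ = ε • (ξ : H → ℂ) ∧
        ∀ (ψ : Cfsg.IrrCharacter H) (m : ℕ),
          Cfsg.classInner (fun h : H => (χ : X → ℂ) h) ψ = (m : ℂ) → (Odd m ↔ ψ = ξ) := by
    intro χ hχ
    obtain ⟨m, hm⟩ := hmult χ hχ
    obtain ⟨⟨η, hη, hsplit⟩, hnorm, -⟩ := hΦ χ (isCharacter_irr χ) m hm
    rw [classInner_self_irr] at hnorm
    have hgen : Cfsg.IsGeneralizedCharacter H (Φ χ) :=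
      ⟨_, _, isCharacter_comp H.subtype (isCharacter_irr χ), isCharacter_nsmul hη 2, by
        rw [show (χ : X → ℂ) ∘ ⇑H.subtype = fun h : H => (χ : X → ℂ) h from rfl, hsplit,
          add_sub_cancel_right]⟩
    obtain ⟨ξ, hξ⟩ := Induced.Generalized.eq_or_neg_of_norm_one hgen hnorm
    obtain ⟨ε, hε, hΦξ⟩ : ∃ ε : ℂ, (ε = 1 ∨ ε = -1) ∧ Φ χ = ε • (ξ : H → ℂ) := by
      rcases hξ with h | h
      · exact ⟨1, Or.inl rfl, by rw [one_smul, h]⟩
      · exact ⟨-1, Or.inr rfl, by rw [neg_one_smul, h]⟩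
    refine ⟨ξ, ε, hε, hΦξ, fun ψ m' hm' => ?_⟩
    obtain ⟨n, hn⟩ := exists_classInner_nat hη (isCharacter_irr ψ)
    rw [hsplit, classInner_add_left, hΦξ, classInner_smul_left, classInner_nsmul_left, hn] at hm'
    constructor
    · intro hodd
      by_contra hne
      rw [classInner_irr_of_ne (Ne.symm hne), mul_zero, zero_add] at hm'
      have h2 : 2 * n = m' := by exact_mod_cast hm'
      exact (Nat.not_even_iff_odd.2 hodd) ⟨n, by omega⟩
    · rintro rfl
      rw [classInner_self_irr, mul_one] at hm'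
      rcases hε with rfl | rfl
      · exact ⟨n, by exact_mod_cast (by push_cast; rw [← hm']; ring : ((m' : ℕ) : ℂ) = ((2 * n + 1 : ℕ) : ℂ))⟩
      · have h2 : 2 * n = m' + 1 := by
          exact_mod_cast (by push_cast; rw [← hm']; ring :
            ((2 * n : ℕ) : ℂ) = ((m' + 1 : ℕ) : ℂ))
        exact ⟨n - 1, by omega⟩
  refine ⟨fun χ hχ => ?_, ?_, ?_⟩
  · obtain ⟨ξ, ε, -, -, h⟩ := hsign χ hχ
    exact ⟨ξ, h⟩
  · intro χ χ' hχ hχ' ψ m m' hm hodd hm' hodd'
    by_contra hne
    obtain ⟨ξ, ε, hε, hΦξ, h⟩ := hsign χ hχ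
    obtain ⟨ξ', ε', hε', hΦξ', h'⟩ := hsign χ' hχ'
    obtain rfl := (h ψ m hm).1 hodd
    obtain rfl := (h' ψ m' hm').1 hodd'
    obtain ⟨a, ha⟩ := hmult χ hχ
    obtain ⟨b, hb⟩ := hmult χ' hχ'
    obtain ⟨-, hnorm, -⟩ := hΦ ((χ : X → ℂ) + (χ' : X → ℂ))
      (isCharacter_add (isCharacter_irr χ) (isCharacter_irr χ')) (a + b) fun k => by
        rw [Pi.add_apply, ha, hb, Nat.cast_add, add_mul]
    rw [map_add, hΦξ, hΦξ', ← add_smul, classInner_smul_left, classInner_smul_right,
      classInner_self_irr, classInner_add_left, classInner_add_right, classInner_add_right,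
      classInner_self_irr, classInner_self_irr, classInner_irr_of_ne hne,
      classInner_irr_of_ne (Ne.symm hne)] at hnorm
    rcases hε with rfl | rfl <;> rcases hε' with rfl | rfl <;>
      simp [map_neg, map_add] at hnorm <;> norm_num at hnorm
  · intro ψ hψ
    obtain ⟨hind, hres⟩ : Cfsg.IsCharacter X (Cfsg.indFun K (θ : K → ℂ)) ∧
        ∀ k : K, Cfsg.indFun K (θ : K → ℂ) k = (K.index : ℂ) * (θ : K → ℂ) k := by
      refine ⟨Induced.Character.isCharacter_indFun K (isCharacter_irr θ), fun k => ?_⟩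
      rw [Clifford.Basic.indFun_apply_normal]
      simp only [D.invX, Finset.sum_const, Finset.card_univ, nsmul_eq_mul]
      rw [← Nat.card_eq_fintype_card (α := X), ← K.index_mul_card, Nat.cast_mul]
      field_simp [subgroup_card_ne_zero K]
    obtain ⟨-, -, hLval⟩ := hΦ _ hind K.index hres
    have hne : Cfsg.classInner (Φ (Cfsg.indFun K (θ : K → ℂ))) ψ ≠ 0 := by
      have hval : ∀ h : H, Φ (Cfsg.indFun K (θ : K → ℂ)) h =
          (K.index : ℂ) * t * Cfsg.extendByZero L (φ : L → ℂ) h := by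
        intro h
        by_cases hh : (h : X) ∈ L
        · rw [extendByZero_of_mem L _ hh]
          exact hLval ⟨h, hh⟩ h.2
        · rw [extendByZero_of_not_mem L _ hh, mul_zero]
          refine hzero _ h fun k => indFun_eq_zero_of_not_mem_normal K _ fun hk => hh ?_
          rw [← D.inf]
          exact ⟨(K.mul_mem_cancel_left k.2).1 hk, h.2⟩
      intro h0
      refine hψ ?_
      rw [Cfsg.classInner] at h0
      simp only [hval, mul_assoc, ← Finset.mul_sum, mul_eq_zero, inv_eq_zero] at h0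
      have h1 : ∑ h : H, Cfsg.extendByZero L (φ : L → ℂ) h * conj ((ψ : H → ℂ) h) = 0 := by
        have hidx : (K.index : ℂ) ≠ 0 := Nat.cast_ne_zero.mpr Subgroup.index_ne_zero_of_finite
        have hH : (Nat.card H : ℂ) ≠ 0 := Nat.cast_ne_zero.mpr Nat.card_pos.ne'
        tauto
      have h2 : ∑ h : H, Cfsg.extendByZero L (φ : L → ℂ) h * conj ((ψ : H → ℂ) h) =
          ∑ l : L, (φ : L → ℂ) l * conj ((ψ : H → ℂ) (Subgroup.inclusion (L_le_H D) l)) := by
        symm
        refine Finset.sum_of_injOn (fun l : L => Subgroup.inclusion (L_le_H D) l)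
          (Subgroup.inclusion_injective _).injOn (fun l _ => Finset.mem_univ _) (fun h _ hh => ?_)
          fun l _ => ?_
        · rw [extendByZero_of_not_mem L _ fun hm => hh ⟨⟨h, hm⟩, by simp, Subtype.ext rfl⟩,
            zero_mul]
        · rw [extendByZero_of_mem L _ (show ((Subgroup.inclusion (L_le_H D) l : H) : X) ∈ L from l.2)]
          rfl
      rw [← classInner_conj_symm, Cfsg.classInner]
      simp only [Function.comp_apply]
      rw [← h2, h1, mul_zero, map_zero]
    have hexp := character_eq_finsum hind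
    haveI := Fintype.ofFinite (Cfsg.IrrCharacter X)
    rw [finsum_eq_sum_of_fintype] at hexp
    rw [hexp, map_sum, classInner_sum_left] at hne
    obtain ⟨χ, -, hχ⟩ := Finset.exists_ne_zero_of_sum_ne_zero hne
    rw [map_smul, classInner_smul_left, mul_ne_zero_iff] at hχ
    have hover : Cfsg.classInner (fun k : K => (χ : X → ℂ) k) θ ≠ 0 := by
      have h := hχ.1
      rw [frobenius_reciprocity K _ (isClassFunction_irr χ)] at h
      exact classInner_ne_zero_symm h
    obtain ⟨ξ, ε, -, hΦξ, h⟩ := hsign χ hover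
    have hψξ : ψ = ξ := by
      by_contra hne'
      apply hχ.2
      rw [hΦξ, classInner_smul_left, classInner_irr_of_ne (Ne.symm hne'), mul_zero]
    obtain ⟨m, hm⟩ := exists_classInner_nat
      (isCharacter_comp H.subtype (isCharacter_irr χ)) (isCharacter_irr ψ)
    exact ⟨χ, hover, m, hm, (h ψ m hm).2 hψξ⟩

end Cfsg.Agent.Lib.BC78.Parity.Core
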