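import Cfsg.Agent.Lib.Characters.Complete
import Cfsg.Agent.Lib.Clifford.Rep
import Mathlib.LinearAlgebra.Contraction
import Mathlib.LinearAlgebra.Trace
import Mathlib.Algebra.Module.Equiv.Basic

/-!
# Operators in isotypic representations

* `fourier`: every endomorphism of an irreducible representation is an explicit combination of the
  representing maps;
* `exists_copies`: a representation with character a multiple of an irreducible one consists of
  copies of it;
* `mem_span_of_bicommutant`, `trace_commutant`: consequences for the commutant;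
* `trace_sandwich`: the trace of `x ↦ a * x * b`.
-/

set_option autoImplicit false

namespace Cfsg.Agent.Lib.BC78.Parity.Fourier

open scoped TensorProduct
open Cfsg.Agent.Lib.Characters Cfsg.Agent.Lib.Clifford

universe u v w

variable {G : Type u} [Group G] {V : Type v} [AddCommGroup V] [Module ℂ V] [FiniteDimensional ℂ V]
  {W : Type w} [AddCommGroup W] [Module ℂ W] [FiniteDimensional ℂ W]

/-- The trace of `x ↦ a * x * b`. -/
theorem trace_sandwich (a b : Module.End ℂ V) :
    LinearMap.trace ℂ (Module.End ℂ V)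
      (LinearMap.mulLeft ℂ a * LinearMap.mulRight ℂ b) =
      LinearMap.trace ℂ V a * LinearMap.trace ℂ V b := by
  have h : LinearMap.mulLeft ℂ a * LinearMap.mulRight ℂ b =
      (dualTensorHomEquiv (R := ℂ) (M := V) (N := V)).conj
        (TensorProduct.map (Module.Dual.transpose (R := ℂ) b) a) := by
    refine LinearMap.ext fun x => ?_
    obtain ⟨t, rfl⟩ := (dualTensorHomEquiv (R := ℂ) (M := V) (N := V)).surjective x
    rw [LinearEquiv.conj_apply_apply, LinearEquiv.symm_apply_apply]
    induction t using TensorProduct.induction_on with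
    | zero => simp
    | add x y hx hy => rw [map_add, map_add, map_add, map_add, hx, hy]
    | tmul f v =>
      refine LinearMap.ext fun y => ?_
      simp [dualTensorHomEquiv, Module.Dual.transpose, Module.End.mul_apply]
  rw [h, LinearMap.trace_conj', LinearMap.trace_tensorProduct', LinearMap.trace_transpose',
    mul_comm]

variable [Fintype G]

/-- The sum of the conjugates of an endomorphism of an irreducible representation. -/
theorem sum_conj (ρ : Representation ℂ G V) [ρ.IsIrreducible] (x : Module.End ℂ V) :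
    ∑ g, ρ g * x * ρ g⁻¹ =
      ((Nat.card G : ℂ) * LinearMap.trace ℂ V x / (Module.finrank ℂ V : ℂ)) •
        (1 : Module.End ℂ V) := by
  have := Rep.nontrivial_of_irreducible ρ
  have hd : (Module.finrank ℂ V : ℂ) ≠ 0 := Nat.cast_ne_zero.mpr Module.finrank_pos.ne'
  obtain ⟨c, hc⟩ := Rep.schur ρ (∑ g, ρ g * x * ρ g⁻¹) fun h => by
    rw [Finset.sum_mul, Finset.mul_sum]
    refine (Fintype.sum_equiv (Equiv.mulLeft h) _ _ fun g => ?_).symm
    rw [← mul_assoc, ← mul_assoc, ← map_mul, mul_assoc (_ * x), ← map_mul]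
    simp [mul_assoc]
  have htr := congrArg (LinearMap.trace ℂ V) hc
  rw [map_sum, map_smul, LinearMap.trace_one, smul_eq_mul] at htr
  have h1 : ∀ g, LinearMap.trace ℂ V (ρ g * x * ρ g⁻¹) = LinearMap.trace ℂ V x := fun g => by
    rw [LinearMap.trace_mul_cycle, ← map_mul, inv_mul_cancel, map_one, one_mul]
  simp only [h1, Finset.sum_const, Finset.card_univ, nsmul_eq_mul, ← Nat.card_eq_fintype_card]
    at htr
  rw [hc, htr, mul_div_assoc, div_self hd, mul_one]

/-- Fourier inversion in an irreducible representation. -/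
theorem fourier (ρ : Representation ℂ G V) [ρ.IsIrreducible] (x : Module.End ℂ V) :
    ((Module.finrank ℂ V : ℂ) / Nat.card G) •
      ∑ g, LinearMap.trace ℂ V (x * ρ g) • ρ g⁻¹ = x := by
  have := Rep.nontrivial_of_irreducible ρ
  have hd : (Module.finrank ℂ V : ℂ) ≠ 0 := Nat.cast_ne_zero.mpr Module.finrank_pos.ne'
  have hG : (Nat.card G : ℂ) ≠ 0 := Nat.cast_ne_zero.mpr Nat.card_pos.ne'
  let b := Module.finBasis ℂ V
  refine LinearMap.ext fun w => ?_
  have key : ∀ (f : Module.Dual ℂ V) (v w : V), ∑ g, f (ρ g v) • ρ g⁻¹ w =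
      ((Nat.card G : ℂ) * f w / Module.finrank ℂ V) • v := fun f v w => by
    have h := LinearMap.congr_fun (sum_conj ρ (dualTensorHom ℂ V V (f ⊗ₜ[ℂ] w))) v
    simp only [LinearMap.sum_apply, LinearMap.trace_eq_contract_apply, contractLeft_apply,
      LinearMap.smul_apply, Module.End.one_apply, Module.End.mul_apply, dualTensorHom_apply,
      map_smul] at h
    rw [← h]
    exact Fintype.sum_equiv (Equiv.inv G) _ _ fun g => by simp
  have htr : ∀ y : Module.End ℂ V, LinearMap.trace ℂ V y = ∑ i, b.coord i (y (b i)) := fun y => by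
    rw [LinearMap.trace_eq_matrix_trace ℂ b, Matrix.trace]
    simp [LinearMap.toMatrix_apply]
  have hsum : ∑ g, LinearMap.trace ℂ V (x * ρ g) • ρ g⁻¹ w =
      ((Nat.card G : ℂ) / Module.finrank ℂ V) • x w := by
    simp_rw [htr, Module.End.mul_apply, Finset.sum_smul]
    rw [Finset.sum_comm]
    have h2 : ∀ i, ∑ g, b.coord i (x (ρ g (b i))) • ρ g⁻¹ w =
        ((Nat.card G : ℂ) / Module.finrank ℂ V) • (b.coord i (x w) • b i) := fun i => by
      have h := key (b.coord i ∘ₗ x) (b i) w
      rw [LinearMap.comp_apply] at h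
      simp only [LinearMap.comp_apply] at h
      rw [h, smul_smul]
      congr 1
      ring
    simp_rw [h2, ← Finset.smul_sum, Module.Basis.coord_apply, b.sum_repr]
  simp only [LinearMap.smul_apply, LinearMap.sum_apply, hsum, smul_smul]
  rw [show (Module.finrank ℂ V : ℂ) / Nat.card G * ((Nat.card G : ℂ) / Module.finrank ℂ V) = 1 by
    field_simp, one_smul]

/-! ## Copies -/

/-- The pointwise action of an endomorphism on `m` copies. -/
def pw (m : ℕ) : Module.End ℂ W →ₐ[ℂ] Module.End ℂ (Fin m → W) :=
  AlgHom.ofLinearMap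
    { toFun := fun x => x.compLeft (Fin m)
      map_add' := fun x y => by ext; simp
      map_smul' := fun c x => by ext; simp }
    (by ext; simp) (fun x y => by ext; simp)

theorem pw_apply {m : ℕ} (x : Module.End ℂ W) (f : Fin m → W) (i : Fin m) :
    pw m x f i = x (f i) := rfl

theorem trace_pw_mul {m : ℕ} (z : Module.End ℂ (Fin m → W)) (x : Module.End ℂ W) :
    LinearMap.trace ℂ _ (z * pw m x) = ∑ i, LinearMap.trace ℂ W
      ((LinearMap.proj i ∘ₗ z ∘ₗ LinearMap.single ℂ (fun _ => W) i) * x) := by
  have h : pw m x = ∑ i : Fin m,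
      LinearMap.single ℂ (fun _ => W) i ∘ₗ x ∘ₗ LinearMap.proj i := by
    refine LinearMap.ext fun f => funext fun j => ?_
    simp [pw_apply, LinearMap.sum_apply, Finset.sum_apply]
  rw [h, Finset.mul_sum, map_sum]
  refine Finset.sum_congr rfl fun i _ => ?_
  rw [Module.End.mul_eq_comp, Module.End.mul_eq_comp, ← LinearMap.comp_assoc,
    ← LinearMap.comp_assoc, LinearMap.trace_comp_comm']
  simp only [LinearMap.comp_assoc]

theorem trace_pw {m : ℕ} (x : Module.End ℂ W) :
    LinearMap.trace ℂ _ (pw m x) = m * LinearMap.trace ℂ W x := by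
  rw [← one_mul (pw m x), trace_pw_mul]
  have h : ∀ i : Fin m, LinearMap.proj i ∘ₗ (1 : Module.End ℂ (Fin m → W)) ∘ₗ
      LinearMap.single ℂ (fun _ => W) i = 1 := fun i => by ext; simp
  simp [h]

/-- A representation whose character is a multiple of an irreducible one consists of copies. -/
theorem exists_copies (σ : Representation ℂ G W) (ρ : Representation ℂ G V) {m : ℕ}
    (h : ∀ g, ρ.character g = m * σ.character g) :
    ∃ e : V ≃ₗ[ℂ] (Fin m → W), ∀ g, e.conj (ρ g) = pw m (σ g) := by
  let τ : Representation ℂ G (Fin m → W) := (pw m).toMonoidHom.comp σ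
  obtain ⟨φ⟩ := Complete.nonempty_equiv_of_char_eq ρ τ (funext fun g => by
    rw [h g]
    exact (trace_pw (σ g)).symm)
  refine ⟨φ.toLinearEquiv, fun g => LinearMap.ext fun x => ?_⟩
  rw [LinearEquiv.conj_apply_apply]
  have key : ∀ y, φ.toLinearEquiv (ρ g y) = τ g (φ.toLinearEquiv y) := fun y =>
    congrArg (fun f : V →ₗ[ℂ] _ => f y) (φ.toIntertwiningMap.isIntertwining' g)
  rw [key, LinearEquiv.apply_symm_apply]
  rfl

/-- An endomorphism commuting with the commutant of an isotypic representation is a combination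
of the representing maps. -/
theorem mem_span_of_bicommutant (σ : Representation ℂ G W) [σ.IsIrreducible]
    (ρ : Representation ℂ G V) {m : ℕ} (h : ∀ g, ρ.character g = m * σ.character g)
    (y : Module.End ℂ V)
    (hy : ∀ x : Module.End ℂ V, (∀ g, x * ρ g = ρ g * x) → y * x = x * y) :
    ∃ c : G → ℂ, y = ∑ g, c g • ρ g := by
  obtain ⟨e, he⟩ := exists_copies σ ρ h
  have inj : Function.Injective e.conj := e.conj.injective
  rcases Nat.eq_zero_or_pos m with rfl | hm
  · exact ⟨0, inj (Subsingleton.elim _ _)⟩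
  have hcomm : ∀ (i j : Fin m) (g : G),
      (LinearMap.single ℂ (fun _ => W) i ∘ₗ LinearMap.proj j) * pw m (σ g) =
      pw m (σ g) * (LinearMap.single ℂ (fun _ => W) i ∘ₗ LinearMap.proj j) := by
    intro i j g
    refine LinearMap.ext fun f => funext fun k => ?_
    rcases eq_or_ne k i with rfl | hk
    · simp [pw_apply, Module.End.mul_apply]
    · simp [pw_apply, Module.End.mul_apply, hk]
  let i₀ : Fin m := ⟨0, hm⟩
  let z : Module.End ℂ W := LinearMap.proj i₀ ∘ₗ e.conj y ∘ₗ LinearMap.single ℂ (fun _ => W) i₀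
  have hyz : e.conj y = pw m z := by
    have hc : ∀ i j, e.conj y * (LinearMap.single ℂ (fun _ => W) i ∘ₗ LinearMap.proj j) =
        (LinearMap.single ℂ (fun _ => W) i ∘ₗ LinearMap.proj j) * e.conj y := by
      intro i j
      let x : Module.End ℂ V := e.symm.conj (LinearMap.single ℂ (fun _ => W) i ∘ₗ LinearMap.proj j)
      have hx : e.conj x = LinearMap.single ℂ (fun _ => W) i ∘ₗ LinearMap.proj j := by
        ext; simp [x, LinearEquiv.conj_apply]
      rw [← hx, Module.End.mul_eq_comp, Module.End.mul_eq_comp, ← LinearEquiv.conj_comp,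
        ← LinearEquiv.conj_comp]
      refine congrArg e.conj (hy x fun g => inj ?_)
      rw [Module.End.mul_eq_comp, Module.End.mul_eq_comp, LinearEquiv.conj_comp,
        LinearEquiv.conj_comp, hx, he]
      exact hcomm i j g
    refine LinearMap.ext fun f => funext fun k => ?_
    have h1 := congrFun (LinearMap.congr_fun (hc i₀ k) f) i₀
    simp only [Module.End.mul_apply, LinearMap.comp_apply, LinearMap.coe_proj, Function.eval,
      LinearMap.coe_single, Pi.single_eq_same] at h1
    rw [pw_apply, show z (f k) = _ from h1]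
  refine ⟨fun g => ((Module.finrank ℂ W : ℂ) / Nat.card G) *
    LinearMap.trace ℂ W (z * σ g⁻¹), inj ?_⟩
  rw [hyz, map_sum]
  simp only [map_smul, he]
  conv_lhs => rw [← fourier σ z, Finset.smul_sum, map_sum]
  refine Fintype.sum_equiv (Equiv.inv G) _ _ fun g => ?_
  simp [smul_smul]

/-- The trace against a representing map of an element of the commutant. -/
theorem trace_commutant (σ : Representation ℂ G W) [σ.IsIrreducible]
    (ρ : Representation ℂ G V) {m : ℕ} (h : ∀ g, ρ.character g = m * σ.character g)
    (x : Module.End ℂ V) (hx : ∀ g, x * ρ g = ρ g * x) (g : G) :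
    LinearMap.trace ℂ V (x * ρ g) * σ.character 1 = σ.character g * LinearMap.trace ℂ V x := by
  obtain ⟨e, he⟩ := exists_copies σ ρ h
  have hblock : ∀ i : Fin m, ∃ c : ℂ,
      LinearMap.proj i ∘ₗ e.conj x ∘ₗ LinearMap.single ℂ (fun _ => W) i =
        c • (1 : Module.End ℂ W) := by
    intro i
    refine Rep.schur σ _ fun k => LinearMap.ext fun w => ?_
    have h1 := congrArg e.conj (hx k)
    rw [Module.End.mul_eq_comp, Module.End.mul_eq_comp, LinearEquiv.conj_comp,
      LinearEquiv.conj_comp, he] at h1
    have h2 := congrFun (LinearMap.congr_fun h1 (Pi.single i w)) i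
    have h3 : pw m (σ k) (Pi.single i w) = Pi.single i (σ k w) := by
      funext j
      rcases eq_or_ne j i with rfl | hj
      · simp [pw_apply]
      · simp [pw_apply, hj]
    simp only [LinearMap.comp_apply, h3, pw_apply] at h2
    simpa [Module.End.mul_apply] using h2
  choose c hc using hblock
  have h1 : ∀ k, LinearMap.trace ℂ V (x * ρ k) = (∑ i, c i) * σ.character k := fun k => by
    rw [← LinearMap.trace_conj' (x * ρ k) e, Module.End.mul_eq_comp, LinearEquiv.conj_comp, he,
      ← Module.End.mul_eq_comp, trace_pw_mul]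
    simp only [hc, smul_mul_assoc, one_mul, map_smul, smul_eq_mul, ← Finset.sum_mul]
    rfl
  have h2 := h1 1
  rw [map_one, mul_one] at h2
  rw [h1, h2]
  ring

end Cfsg.Agent.Lib.BC78.Parity.Fourier
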