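import Cfsg.Agent.Lib.BC78.Parity.Torsor
import Cfsg.Agent.Lib.BC78.LinTwist
import Cfsg.Agent.Lib.RelGlauberman.Main
import Cfsg.Agent.Lib.Clifford.Basic

/-!
# Invariant constituents under a coprime action centralising a supplement
-/

set_option autoImplicit false

namespace Cfsg.Agent.Lib.BC78.Parity.Invariant

open scoped ComplexConjugate
open Cfsg.Agent.Lib.Induced.Basic Cfsg.Agent.Lib.Characters.Basic Cfsg.Agent.Lib.Characters
open Cfsg.Agent.Lib.Clifford Cfsg.Agent.Lib.Clifford.Basic Cfsg.Agent.Lib.RelGlauberman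

universe u v w

/-- A map of finite order equal at a point to a commuting map of coprime order fixes the point. -/
theorem fix_of_eq {Y : Type w} {H : Type u} [Group H] {f : Y → Y} {c : H → Y → Y} (P : Y → Prop)
    (hc : ∀ a b y, c (a * b) y = c b (c a y)) (hc1 : ∀ y, c 1 y = y) (hPc : ∀ a y, P y → P (c a y))
    {h : H} (hcomm : ∀ a, a ∈ Subgroup.zpowers h → ∀ y, P y → f (c a y) = c a (f y)) {n : ℕ}
    (hf : ∀ y, f^[n] y = y) (hcop : (orderOf h).Coprime n) {y : Y} (hy : P y) (he : f y = c h y) :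
    f y = y := by
  have hit : ∀ i, f^[i] y = c (h ^ i) y := fun i => by
    induction i with
    | zero => rw [pow_zero, hc1]; rfl
    | succ i ih =>
      rw [Function.iterate_succ_apply', ih,
        hcomm _ (Subgroup.pow_mem _ (Subgroup.mem_zpowers h) i) _ hy, he, ← hc, ← pow_succ']
  have hfix : c (h ^ n) y = y := by rw [← hit, hf]
  obtain ⟨m, hm⟩ := exists_pow_eq_self_of_coprime (x := h) hcop.symm
  have hall : ∀ i, c ((h ^ n) ^ i) y = y := fun i => by
    induction i with
    | zero => rw [pow_zero, hc1]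
    | succ i ih => rw [pow_succ, hc, ih, hfix]
  rw [he, ← hm, hall]

variable {X : Type u} [Group X] {S : Type v} [Group S] [Finite S] {act : S →* MulAut X}

/-- A class function of `N` moved by `s` as by an element centralised modulo `N` is fixed by `s`. -/
theorem comp_eq_self [Finite X] (N : Subgroup X) [hN : N.Normal]
    (hNa : ∀ s, ∀ x ∈ N, act s x ∈ N) (hcop : (Nat.card X).Coprime (Nat.card S)) {s : S} {h : X}
    (hh : act s h * h⁻¹ ∈ N) {θ : N → ℂ} (hθ : Cfsg.IsClassFunction N θ)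
    (he : (fun n : N => θ ⟨act s n, hNa s n n.2⟩) = conjC N h θ) (n : N) :
    θ ⟨act s n, hNa s n n.2⟩ = θ n := by
  let f : (N → ℂ) → (N → ℂ) := fun φ n => φ ⟨act s n, hNa s n n.2⟩
  have hiter : ∀ (i : ℕ) (φ : N → ℂ) (n : N),
      f^[i] φ n = φ ⟨act (s ^ i) n, hNa _ n n.2⟩ := by
    intro i
    induction i with
    | zero => intro φ n; simp
    | succ i ih =>
      intro φ n
      rw [Function.iterate_succ_apply', show f (f^[i] φ) n = f^[i] φ ⟨act s n, hNa s n n.2⟩ from rfl,
        ih]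
      exact congrArg φ (Subtype.ext (by simp [pow_succ]))
  have hcentral : ∀ a ∈ Subgroup.zpowers h, act s a * a⁻¹ ∈ N := by
    intro a ha
    obtain ⟨k, rfl⟩ := Subgroup.mem_zpowers_iff.1 ha
    rw [← QuotientGroup.eq_one_iff, QuotientGroup.mk_mul, QuotientGroup.mk_inv, map_zpow,
      QuotientGroup.mk_zpow, QuotientGroup.mk_zpow, mul_inv_eq_one]
    congr 1
    rw [← mul_inv_eq_one, ← QuotientGroup.mk_inv, ← QuotientGroup.mk_mul, QuotientGroup.eq_one_iff]
    exact hh
  refine congrFun (fix_of_eq (f := f) (c := conjC N) (n := orderOf s) (Cfsg.IsClassFunction N)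
    (fun a b y => conjC_mul N a b y) (fun y => conjC_one N y)
    (fun a y hy => fun g x => by
      show y _ = y _
      refine Eq.trans (congrArg y (Subtype.ext ?_))
        (hy ⟨a * g * a⁻¹, hN.conj_mem _ g.2 a⟩ ⟨a * x * a⁻¹, hN.conj_mem _ x.2 a⟩)
      simp [mul_assoc])
    (fun a ha y hy => ?_) (fun y => funext fun n => by
      rw [hiter]; exact congrArg y (Subtype.ext (by simp [pow_orderOf_eq_one])))
    ((hcop.coprime_dvd_left (orderOf_dvd_natCard h)).coprime_dvd_right (orderOf_dvd_natCard s))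
    hθ he) n
  funext n
  show y ⟨a * act s n * a⁻¹, _⟩ = y ⟨act s (a * n * a⁻¹), _⟩
  refine Eq.trans ?_ (hy _ ⟨(act s a * a⁻¹)⁻¹, N.inv_mem (hcentral a ha)⟩)
  exact congrArg y (Subtype.ext (by simp [mul_assoc]))

/-- The correspondent of an invariant character is invariant. -/
theorem inv_correspondent [Fintype X] (N : Subgroup X) [hN : N.Normal] [Fintype N]
    (hNa : ∀ s, ∀ x ∈ N, act s x ∈ N) (φ : Cfsg.IrrCharacter N) (hφ : InvOn act N (φ : N → ℂ))
    (T : Subgroup X) [Fintype T] (hNT : N ≤ T) (hT : T = inertia N (φ : N → ℂ))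
    (hTa : ∀ s, ∀ x ∈ T, act s x ∈ T) (ψ : Cfsg.IrrCharacter T)
    (hψ : Cfsg.classInner ((ψ : T → ℂ) ∘ Subgroup.inclusion hNT) φ ≠ 0)
    (hind : ∀ s x, Cfsg.indFun T (ψ : T → ℂ) (act s x) = Cfsg.indFun T (ψ : T → ℂ) x) (s : S)
    (x : T) : (ψ : T → ℂ) ⟨act s x, hTa s x x.2⟩ = (ψ : T → ℂ) x := by
  let ψ' : Cfsg.IrrCharacter T := ⟨(ψ : T → ℂ) ∘ (restrictAct act T hTa s).toMonoidHom,
    isIrrCharacter_comp _ (restrictAct act T hTa s).surjective ψ.2⟩
  have hover : Cfsg.classInner ((ψ' : T → ℂ) ∘ Subgroup.inclusion hNT) φ ≠ 0 := by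
    have e : Cfsg.classInner ((ψ' : T → ℂ) ∘ Subgroup.inclusion hNT) φ =
        Cfsg.classInner ((ψ : T → ℂ) ∘ Subgroup.inclusion hNT) φ := by
      simp only [Cfsg.classInner]
      congr 1
      refine Fintype.sum_equiv (restrictAct act N hNa s).toEquiv _ _ fun n => ?_
      show _ = _ * conj ((φ : N → ℂ) (restrictAct act N hNa s n))
      rw [hφ s n (restrictAct act N hNa s n) rfl]
      rfl
    rwa [e]
  have heq : ψ' = ψ := indFun_injective N φ T hNT hT hover hψ (funext fun g => by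
    rw [show Cfsg.indFun T (ψ' : T → ℂ) g = Cfsg.indFun T (ψ : T → ℂ) (act s g) from
      (indFun_act act T hTa (ψ : T → ℂ) s g).symm, hind])
  exact congrFun (congrArg Subtype.val heq) x

end Cfsg.Agent.Lib.BC78.Parity.Invariant
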