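import Cfsg.Agent.Lib.BC78.Parity.Theta

/-!
# The parity correspondence for an abelian section with fixed point free action

`main`: invariant irreducible characters of `X` and of `H` correspond by odd multiplicity in the
restriction.
-/

set_option autoImplicit false

namespace Cfsg.Agent.Lib.BC78.Parity.Reduce

open scoped ComplexConjugate
open Cfsg.Agent.Lib.Induced.Basic Cfsg.Agent.Lib.Characters.Basic Cfsg.Agent.Lib.Characters
open Cfsg.Agent.Lib.Clifford Cfsg.Agent.Lib.Clifford.Basic Cfsg.Agent.Lib.RelGlauberman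

universe u v

variable {X : Type u} [Group X] [Fintype X] {S : Type v} [Group S] [Finite S]
variable {act : S →* MulAut X} {K L H : Subgroup X} [hKn : K.Normal] [hLn : L.Normal]
  [Fintype K] [Fintype L] [Fintype H] (R : Red act K L H)

/-- Inner products are transported by isomorphisms. -/
theorem inner_equiv {A B : Type*} [Group A] [Group B] [Fintype A] [Fintype B] (e : A ≃* B)
    {f f' : A → ℂ} {g g' : B → ℂ} (h : ∀ a, f a = g (e a)) (h' : ∀ a, f' a = g' (e a)) :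
    Cfsg.classInner f f' = Cfsg.classInner g g' := by
  simp only [Cfsg.classInner, Nat.card_congr e.toEquiv]
  congr 1
  exact Fintype.sum_equiv e.toEquiv _ _ fun a => by
    rw [h, h']
    rfl

include R in
/-- The correspondence over a fixed invariant character of `L`. -/
theorem local_correspondence (φ : Cfsg.IrrCharacter L) (hφ : InvOn act L (φ : L → ℂ)) :
    (∀ χ : Cfsg.IrrCharacter X, (∀ s x, (χ : X → ℂ) (act s x) = (χ : X → ℂ) x) →
      Cfsg.classInner (fun n : L => (χ : X → ℂ) n) φ ≠ 0 →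
      ∃ ξ : Cfsg.IrrCharacter H, InvOn act H (ξ : H → ℂ) ∧
        (∃ m : ℕ, Cfsg.classInner (fun h : H => (χ : X → ℂ) h) ξ = (m : ℂ) ∧ Odd m) ∧
        ∀ (ψ : Cfsg.IrrCharacter H) (m : ℕ),
          Cfsg.classInner ((ψ : H → ℂ) ∘ Subgroup.inclusion (L_le_H R)) φ ≠ 0 →
          Cfsg.classInner (fun h : H => (χ : X → ℂ) h) ψ = (m : ℂ) → Odd m → ψ = ξ) ∧
    (∀ χ χ' : Cfsg.IrrCharacter X, (∀ s x, (χ : X → ℂ) (act s x) = (χ : X → ℂ) x) →
      (∀ s x, (χ' : X → ℂ) (act s x) = (χ' : X → ℂ) x) →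
      Cfsg.classInner (fun n : L => (χ : X → ℂ) n) φ ≠ 0 →
      Cfsg.classInner (fun n : L => (χ' : X → ℂ) n) φ ≠ 0 →
      ∀ (ψ : Cfsg.IrrCharacter H) (m m' : ℕ),
      Cfsg.classInner ((ψ : H → ℂ) ∘ Subgroup.inclusion (L_le_H R)) φ ≠ 0 →
      Cfsg.classInner (fun h : H => (χ : X → ℂ) h) ψ = (m : ℂ) → Odd m →
      Cfsg.classInner (fun h : H => (χ' : X → ℂ) h) ψ = (m' : ℂ) → Odd m' → χ = χ') ∧
    ∀ ψ : Cfsg.IrrCharacter H, InvOn act H (ψ : H → ℂ) →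
      Cfsg.classInner ((ψ : H → ℂ) ∘ Subgroup.inclusion (L_le_H R)) φ ≠ 0 →
      ∃ χ : Cfsg.IrrCharacter X, (∀ s x, (χ : X → ℂ) (act s x) = (χ : X → ℂ) x) ∧
        ∃ m : ℕ, Cfsg.classInner (fun h : H => (χ : X → ℂ) h) ψ = (m : ℂ) ∧ Odd m := by
  classical
  let T : Subgroup X := inertia L (φ : L → ℂ)
  letI : Fintype T := Fintype.ofFinite _
  have hLT : L ≤ T := le_inertia L (isClassFunction_irr φ)
  have hTa : ∀ s, ∀ x ∈ T, act s x ∈ T := fun s x hx => act_mem_inertia L hφ R.stabL s hx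
  have hLH : L ≤ H := L_le_H R
  let act₀ : S →* MulAut T := restrictAct act T hTa
  let K₀ : Subgroup T := K.subgroupOf T
  let L₀ : Subgroup T := L.subgroupOf T
  let H₀ : Subgroup T := H.subgroupOf T
  letI : Fintype K₀ := Fintype.ofFinite _
  letI : Fintype L₀ := Fintype.ofFinite _
  letI : Fintype H₀ := Fintype.ofFinite _
  haveI : K₀.Normal := hKn.subgroupOf T
  haveI : L₀.Normal := hLn.subgroupOf T
  let eL : L₀ ≃* L := Subgroup.subgroupOfEquivOfLe hLT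
  let φ₀ : Cfsg.IrrCharacter L₀ :=
    ⟨(φ : L → ℂ) ∘ eL.toMonoidHom, isIrrCharacter_comp _ eL.surjective φ.2⟩
  have R₀ : Red act₀ K₀ L₀ H₀ :=
    { le := fun x hx => Subgroup.mem_subgroupOf.2 (R.le (Subgroup.mem_subgroupOf.1 hx))
      comm := fun a ha b hb => Subgroup.mem_subgroupOf.2
        (R.comm _ (Subgroup.mem_subgroupOf.1 ha) _ (Subgroup.mem_subgroupOf.1 hb))
      inf := by
        ext x
        simp only [K₀, L₀, H₀, Subgroup.mem_inf, Subgroup.mem_subgroupOf]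
        rw [← Subgroup.mem_inf, R.inf]
      sup := fun x => by
        obtain ⟨h, hh, k, hk, hx, hhT, hkT⟩ := inertia_split R φ hφ x.2
        exact ⟨⟨h, hhT⟩, Subgroup.mem_subgroupOf.2 hh, ⟨k, hkT⟩, Subgroup.mem_subgroupOf.2 hk,
          Subtype.ext hx⟩
      odd := R.odd.of_dvd_nat T.card_subgroup_dvd_card
      cop := R.cop.coprime_dvd_left T.card_subgroup_dvd_card
      stabK := fun s x hx => Subgroup.mem_subgroupOf.2 (R.stabK s _ (Subgroup.mem_subgroupOf.1 hx))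
      stabL := fun s x hx => Subgroup.mem_subgroupOf.2 (R.stabL s _ (Subgroup.mem_subgroupOf.1 hx))
      cent := fun s h hh => Subgroup.mem_subgroupOf.2 (R.cent s _ (Subgroup.mem_subgroupOf.1 hh))
      fpf := fun k hk h => Subgroup.mem_subgroupOf.2 (R.fpf _ (Subgroup.mem_subgroupOf.1 hk)
        fun s => Subgroup.mem_subgroupOf.1 (h s)) }
  have hφ₀ : InvOn act₀ L₀ (φ₀ : L₀ → ℂ) := fun s a b hb => hφ s (eL a) (eL b)
    (congrArg Subtype.val hb)
  have hφ₀X : ∀ x, conjC L₀ x (φ₀ : L₀ → ℂ) = φ₀ := fun x =>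
    funext fun n => congrFun (mem_inertia L |>.1 x.2) (eL n)
  obtain ⟨θ, hD, hθ⟩ := exists_theta R₀ φ₀ hφ₀ hφ₀X
  obtain ⟨hc1, hc2, hc3⟩ := Core.correspondence hD
  -- the side of `H`
  let LH : Subgroup H := L.subgroupOf H
  let TH : Subgroup H := T.subgroupOf H
  letI : Fintype LH := Fintype.ofFinite _
  letI : Fintype TH := Fintype.ofFinite _
  haveI : LH.Normal := hLn.subgroupOf H
  let eH : LH ≃* L := Subgroup.subgroupOfEquivOfLe hLH
  let φH : Cfsg.IrrCharacter LH :=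
    ⟨(φ : L → ℂ) ∘ eH.toMonoidHom, isIrrCharacter_comp _ eH.surjective φ.2⟩
  have hLTH : LH ≤ TH := fun x hx => Subgroup.mem_subgroupOf.2 (hLT (Subgroup.mem_subgroupOf.1 hx))
  have hTH : TH = inertia LH (φH : LH → ℂ) := by
    ext x
    rw [Subgroup.mem_subgroupOf, mem_inertia, mem_inertia]
    constructor
    · exact fun h => funext fun n => congrFun h (eH n)
    · exact fun h => funext fun n => by
        have h1 := congrFun h (eH.symm n)
        rw [conjC_apply] at h1 ⊢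
        exact h1
  let eT : TH ≃* H₀ :=
    { toFun := fun x => ⟨⟨((x : H) : X), Subgroup.mem_subgroupOf.1 x.2⟩,
        Subgroup.mem_subgroupOf.2 (x : H).2⟩
      invFun := fun x => ⟨⟨((x : T) : X), Subgroup.mem_subgroupOf.1 x.2⟩,
        Subgroup.mem_subgroupOf.2 (x : T).2⟩
      left_inv := fun x => rfl
      right_inv := fun x => rfl
      map_mul' := fun x y => rfl }
  have hoverH : ∀ ψ : Cfsg.IrrCharacter H,
      Cfsg.classInner (fun n : LH => (ψ : H → ℂ) n) φH =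
        Cfsg.classInner ((ψ : H → ℂ) ∘ Subgroup.inclusion hLH) φ := fun ψ =>
    inner_equiv eH (fun n => rfl) fun n => rfl
  have hres₀ : ∀ ψ₀ : Cfsg.IrrCharacter TH,
      Cfsg.classInner ((ψ₀ : TH → ℂ) ∘ Subgroup.inclusion hLTH) φH =
        Cfsg.classInner (((ψ₀ : TH → ℂ) ∘ eT.symm) ∘
          Subgroup.inclusion (L_le_H R₀)) φ₀ := fun ψ₀ =>
    inner_equiv (eH.trans eL.symm) (fun n => rfl) fun n => rfl
  have hmult : ∀ (χ₀ : Cfsg.IrrCharacter T) (χ : Cfsg.IrrCharacter X) (ψ₀ : Cfsg.IrrCharacter TH)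
      (ψ : Cfsg.IrrCharacter H), Cfsg.classInner ((χ₀ : T → ℂ) ∘ Subgroup.inclusion hLT) φ ≠ 0 →
      Cfsg.indFun T (χ₀ : T → ℂ) = χ →
      Cfsg.classInner ((ψ₀ : TH → ℂ) ∘ Subgroup.inclusion hLTH) φH ≠ 0 →
      Cfsg.indFun TH (ψ₀ : TH → ℂ) = ψ →
      Cfsg.classInner (fun h : H => (χ : X → ℂ) h) ψ =
        Cfsg.classInner (fun h : H₀ => (χ₀ : T → ℂ) h) ((ψ₀ : TH → ℂ) ∘ eT.symm) := by
    intro χ₀ χ ψ₀ ψ hχ₀ hχ hψ₀ hψ
    obtain ⟨χ', hχ', -, r, hr, hdec, hr0⟩ := RelGlauberman.correspondence L φ T hLT rfl χ₀ hχ₀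
    obtain rfl : χ' = χ := Subtype.ext (hχ'.symm.trans hχ)
    have hcl : Cfsg.IsClassFunction H (fun h : H => (χ' : X → ℂ) h) :=
      isClassFunction_of_isCharacter (isCharacter_comp H.subtype (isCharacter_irr χ'))
    rw [← hψ, frobenius_reciprocity' TH _ hcl]
    have e1 : Cfsg.classInner (fun t : TH => (χ' : X → ℂ) ((t : H) : X)) (ψ₀ : TH → ℂ) =
        Cfsg.classInner (fun h : H₀ => (χ' : X → ℂ) ((h : T) : X)) ((ψ₀ : TH → ℂ) ∘ eT.symm) :=
      inner_equiv eT (fun t => rfl) fun t => rfl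
    refine Eq.trans e1 ?_
    have e2 : (fun h : H₀ => (χ' : X → ℂ) ((h : T) : X)) =
        (fun h : H₀ => (χ₀ : T → ℂ) h) + r ∘ H₀.subtype :=
      funext fun h => congrFun hdec (h : T)
    rw [e2, classInner_add_left, add_eq_left]
    by_contra hne
    rw [hres₀] at hψ₀
    let ψ₀' : Cfsg.IrrCharacter H₀ :=
      ⟨(ψ₀ : TH → ℂ) ∘ eT.symm.toMonoidHom, isIrrCharacter_comp _ eT.symm.surjective ψ₀.2⟩
    have h3 := classInner_comp_ne_zero (Subgroup.inclusion (L_le_H R₀))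
      (isCharacter_comp H₀.subtype hr) (a := ψ₀') hne (b := φ₀) hψ₀
    have e3 : Cfsg.classInner ((r ∘ ⇑H₀.subtype) ∘ Subgroup.inclusion (L_le_H R₀)) φ₀ =
        Cfsg.classInner (r ∘ Subgroup.inclusion hLT) φ := inner_equiv eL (fun n => rfl) fun n => rfl
    exact h3 (e3.trans hr0)
  have hover₀ : ∀ χ₀ : Cfsg.IrrCharacter T,
      Cfsg.classInner ((χ₀ : T → ℂ) ∘ Subgroup.inclusion hLT) φ =
        Cfsg.classInner (fun n : L₀ => (χ₀ : T → ℂ) n) φ₀ := fun χ₀ =>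
    inner_equiv eL.symm (fun n => rfl) fun n => by
      show _ = (φ : L → ℂ) (eL (eL.symm n))
      rw [MulEquiv.apply_symm_apply]
  -- the correspondent of an invariant character
  have hdown : ∀ χ : Cfsg.IrrCharacter X, (∀ s x, (χ : X → ℂ) (act s x) = (χ : X → ℂ) x) →
      Cfsg.classInner (fun n : L => (χ : X → ℂ) n) φ ≠ 0 →
      ∃ χ₀ : Cfsg.IrrCharacter T, Cfsg.classInner ((χ₀ : T → ℂ) ∘ Subgroup.inclusion hLT) φ ≠ 0 ∧
        Cfsg.indFun T (χ₀ : T → ℂ) = χ ∧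
        Cfsg.classInner (fun k : K₀ => (χ₀ : T → ℂ) k) θ ≠ 0 := by
    intro χ hχ hover
    obtain ⟨χ₀, h1, h2⟩ := exists_over L φ T hLT rfl hover
    refine ⟨χ₀, h1, h2, hθ χ₀ (fun s x => ?_) (by rwa [← hover₀])⟩
    exact Invariant.inv_correspondent L R.stabL φ hφ T hLT rfl hTa χ₀ h1
      (fun s x => by rw [h2, hχ]) s x
  have hdownH : ∀ ψ : Cfsg.IrrCharacter H,
      Cfsg.classInner ((ψ : H → ℂ) ∘ Subgroup.inclusion hLH) φ ≠ 0 →
      ∃ ψ₀ : Cfsg.IrrCharacter TH, Cfsg.classInner ((ψ₀ : TH → ℂ) ∘ Subgroup.inclusion hLTH) φH ≠ 0 ∧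
        Cfsg.indFun TH (ψ₀ : TH → ℂ) = ψ := fun ψ hψ =>
    exists_over LH φH TH hLTH hTH (by rwa [hoverH])
  let push : Cfsg.IrrCharacter TH → Cfsg.IrrCharacter H₀ := fun ψ₀ =>
    ⟨(ψ₀ : TH → ℂ) ∘ eT.symm.toMonoidHom, isIrrCharacter_comp _ eT.symm.surjective ψ₀.2⟩
  have hpush : Function.Injective push := fun a b h => Subtype.ext (funext fun t => by
    have h1 := congrFun (congrArg Subtype.val h) (eT t)
    exact (congrArg (a : TH → ℂ) (eT.symm_apply_apply t).symm).trans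
      (h1.trans (congrArg (b : TH → ℂ) (eT.symm_apply_apply t))))
  refine ⟨fun χ hχ hover => ?_, fun χ χ' hχ hχ' hover hover' ψ m m' hψ hm hodd hm' hodd' => ?_,
    fun ψ hψ hψφ => ?_⟩
  · obtain ⟨χ₀, h1, h2, h3⟩ := hdown χ hχ hover
    obtain ⟨ξ₀, hξ₀⟩ := hc1 χ₀ h3
    -- the correspondent lies over `φ`
    obtain ⟨m₀, hm₀⟩ := exists_classInner_nat
      (isCharacter_comp H₀.subtype (isCharacter_irr χ₀)) (isCharacter_irr ξ₀)
    have hm₀' : Odd m₀ := (hξ₀ ξ₀ m₀ hm₀).2 rfl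
    let ψ₀ : Cfsg.IrrCharacter TH :=
      ⟨(ξ₀ : H₀ → ℂ) ∘ eT.toMonoidHom, isIrrCharacter_comp _ eT.surjective ξ₀.2⟩
    have hpush₀ : push ψ₀ = ξ₀ :=
      Subtype.ext (funext fun h => congrArg (ξ₀ : H₀ → ℂ) (eT.apply_symm_apply h))
    have hψ₀ : Cfsg.classInner ((ψ₀ : TH → ℂ) ∘ Subgroup.inclusion hLTH) φH ≠ 0 := by
      rw [hres₀]
      have e : ((ψ₀ : TH → ℂ) ∘ eT.symm) = (ξ₀ : H₀ → ℂ) := congrArg Subtype.val hpush₀
      rw [e]
      obtain ⟨φ'', hφ''⟩ := exists_constituent_restrict (G := H₀) (L₀.subgroupOf H₀) ξ₀.2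
      let eC : L₀.subgroupOf H₀ ≃* L₀ := Subgroup.subgroupOfEquivOfLe (L_le_H R₀)
      let φ₁ : Cfsg.IrrCharacter L₀ :=
        ⟨(φ'' : L₀.subgroupOf H₀ → ℂ) ∘ eC.symm.toMonoidHom,
          isIrrCharacter_comp _ eC.symm.surjective φ''.2⟩
      have h4 : Cfsg.classInner ((ξ₀ : H₀ → ℂ) ∘ Subgroup.inclusion (L_le_H R₀)) φ₁ ≠ 0 := by
        letI : Fintype (L₀.subgroupOf H₀) := Fintype.ofFinite _
        refine ne_of_eq_of_ne (inner_equiv eC.symm
          (g := fun n : L₀.subgroupOf H₀ => (ξ₀ : H₀ → ℂ) n) (g' := (φ'' : L₀.subgroupOf H₀ → ℂ))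
          (fun n => rfl) (fun n => rfl)) ?_
        convert hφ''
      have h5 : Cfsg.classInner (((fun h : H₀ => (χ₀ : T → ℂ) h)) ∘
          Subgroup.inclusion (L_le_H R₀)) φ₁ ≠ 0 :=
        classInner_comp_ne_zero (Subgroup.inclusion (L_le_H R₀))
          (isCharacter_comp H₀.subtype (isCharacter_irr χ₀)) (a := ξ₀)
          (fun h0 => by
            have h6 : ((m₀ : ℕ) : ℂ) = 0 := hm₀.symm.trans h0
            rw [Nat.cast_eq_zero] at h6
            rw [h6] at hm₀'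
            exact absurd hm₀' (by decide)) h4
      have hres := restrict_eq_smul L₀ χ₀.2 φ₀ (by rwa [← hover₀]) hφ₀X
      rw [show ((fun h : H₀ => (χ₀ : T → ℂ) h)) ∘ Subgroup.inclusion (L_le_H R₀) =
        fun n : L₀ => (χ₀ : T → ℂ) n from rfl, hres, classInner_smul_left, classInner_irr] at h5
      have heq : φ₀ = φ₁ := by
        by_contra hne
        rw [if_neg hne, mul_zero] at h5
        exact h5 rfl
      rw [heq]
      exact h4
    obtain ⟨ψ, hψ, hψover, -⟩ := RelGlauberman.correspondence LH φH TH hLTH hTH ψ₀ hψ₀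
    rw [hoverH] at hψover
    have hmψ : Cfsg.classInner (fun h : H => (χ : X → ℂ) h) ψ = (m₀ : ℂ) := by
      rw [hmult χ₀ χ ψ₀ ψ h1 h2 hψ₀ hψ]
      have e : ((ψ₀ : TH → ℂ) ∘ eT.symm) = (ξ₀ : H₀ → ℂ) := congrArg Subtype.val hpush₀
      rw [e]
      exact hm₀
    have huniq : ∀ (ψ' : Cfsg.IrrCharacter H) (m : ℕ),
        Cfsg.classInner ((ψ' : H → ℂ) ∘ Subgroup.inclusion hLH) φ ≠ 0 →
        Cfsg.classInner (fun h : H => (χ : X → ℂ) h) ψ' = (m : ℂ) → Odd m → ψ' = ψ := by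
      intro ψ' m hψ' hm hodd
      obtain ⟨ψ₁, h4, h5⟩ := hdownH ψ' hψ'
      rw [hmult χ₀ χ ψ₁ ψ' h1 h2 h4 h5] at hm
      have h6 : push ψ₁ = ξ₀ := (hξ₀ (push ψ₁) m hm).1 hodd
      have h7 : ψ₁ = ψ₀ := hpush (h6.trans hpush₀.symm)
      exact Subtype.ext (h5.symm.trans ((by rw [h7] : _ = _).trans hψ))
    refine ⟨ψ, fun s x y hy => ?_, ⟨m₀, hmψ, hm₀'⟩, fun ψ' m => huniq ψ' m⟩
    let ψs : Cfsg.IrrCharacter H :=
      ⟨(ψ : H → ℂ) ∘ (restrictAct act H (stabH R) s).toMonoidHom,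
        isIrrCharacter_comp _ (restrictAct act H (stabH R) s).surjective ψ.2⟩
    have hs1 : Cfsg.classInner ((ψs : H → ℂ) ∘ Subgroup.inclusion hLH) φ ≠ 0 := by
      exact ne_of_eq_of_ne (inner_equiv (restrictAct act L R.stabL s)
        (g := (ψ : H → ℂ) ∘ Subgroup.inclusion hLH) (g' := (φ : L → ℂ)) (fun n => rfl)
        (fun n => (hφ s n _ rfl).symm)) hψover
    have hs2 : Cfsg.classInner (fun h : H => (χ : X → ℂ) h) ψs = (m₀ : ℂ) := by
      exact (inner_equiv (restrictAct act H (stabH R) s) (g := fun h : H => (χ : X → ℂ) h)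
        (g' := (ψ : H → ℂ)) (fun n => (hχ s n).symm) (fun n => rfl)).trans hmψ
    have h := congrFun (congrArg Subtype.val (huniq ψs m₀ hs1 hs2 hm₀')) x
    exact (congrArg (ψ : H → ℂ) (Subtype.ext hy)).trans h
  · obtain ⟨χ₀, h1, h2, h3⟩ := hdown χ hχ hover
    obtain ⟨χ₀', h1', h2', h3'⟩ := hdown χ' hχ' hover'
    obtain ⟨ψ₀, h4, h5⟩ := hdownH ψ hψ
    rw [hmult χ₀ χ ψ₀ ψ h1 h2 h4 h5] at hm
    rw [hmult χ₀' χ' ψ₀ ψ h1' h2' h4 h5] at hm'
    have h6 := hc2 χ₀ χ₀' h3 h3' (push ψ₀) m m' hm hodd hm' hodd'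
    exact Subtype.ext (h2.symm.trans (by rw [h6]; exact h2'))
  · obtain ⟨ψ₀, h4, h5⟩ := hdownH ψ hψφ
    have h4' := h4
    rw [hres₀] at h4'
    obtain ⟨χ₀, h3, m, hm, hodd⟩ := hc3 (push ψ₀) h4'
    have h1 : Cfsg.classInner ((χ₀ : T → ℂ) ∘ Subgroup.inclusion hLT) φ ≠ 0 := by
      have h6 : Cfsg.classInner (fun h : H₀ => (χ₀ : T → ℂ) h) (push ψ₀) ≠ 0 := by
        rw [hm]
        exact Nat.cast_ne_zero.mpr hodd.pos.ne'
      have h7 := classInner_comp_ne_zero (Subgroup.inclusion (L_le_H R₀))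
        (isCharacter_comp H₀.subtype (isCharacter_irr χ₀)) (a := push ψ₀) h6 (b := φ₀) h4'
      rw [hover₀]
      exact h7
    obtain ⟨χ, hχ, -, -⟩ := RelGlauberman.correspondence L φ T hLT rfl χ₀ h1
    refine ⟨χ, fun s x => ?_, m, by rw [hmult χ₀ χ ψ₀ ψ h1 hχ h4 h5]; exact hm, hodd⟩
    -- invariance
    let χs : Cfsg.IrrCharacter T :=
      ⟨(χ₀ : T → ℂ) ∘ (act₀ s).toMonoidHom, isIrrCharacter_comp _ (act₀ s).surjective χ₀.2⟩
    have hTHa : ∀ s, ∀ x ∈ TH, restrictAct act H (stabH R) s x ∈ TH := fun s x hx =>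
      Subgroup.mem_subgroupOf.2 (hTa s _ (Subgroup.mem_subgroupOf.1 hx))
    have hψ₀inv : ∀ s (t : TH),
        (ψ₀ : TH → ℂ) ⟨restrictAct act H (stabH R) s t, hTHa s t t.2⟩ = (ψ₀ : TH → ℂ) t := by
      intro s t
      refine Invariant.inv_correspondent (act := restrictAct act H (stabH R)) LH
        (fun s x hx => Subgroup.mem_subgroupOf.2 (R.stabL s _ (Subgroup.mem_subgroupOf.1 hx))) φH
        (fun s a b hb => hφ s (eH a) (eH b) (congrArg Subtype.val hb)) TH hLTH hTH hTHa ψ₀ h4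
        (fun s x => ?_) s t
      rw [h5]
      exact hψ s x _ rfl
    have hs3 : Cfsg.classInner (fun k : K₀ => (χs : T → ℂ) k) θ ≠ 0 := by
      exact ne_of_eq_of_ne (inner_equiv (restrictAct act₀ K₀ R₀.stabK s)
        (g := fun k : K₀ => (χ₀ : T → ℂ) k)
        (g' := (θ : K₀ → ℂ)) (fun n => rfl) (fun n => (hD.invS s n _ rfl).symm)) h3
    have hs4 : Cfsg.classInner (fun h : H₀ => (χs : T → ℂ) h) (push ψ₀) = (m : ℂ) := by
      refine (inner_equiv (restrictAct act₀ H₀ (stabH R₀) s) (g := fun h : H₀ => (χ₀ : T → ℂ) h)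
        (g' := (push ψ₀ : H₀ → ℂ)) (fun n => rfl) (fun n => ?_)).trans hm
      exact (hψ₀inv s (eT.symm n)).symm
    have h8 : χs = χ₀ := hc2 χs χ₀ hs3 h3 (push ψ₀) m m hs4 hodd hm hodd
    rw [← hχ, indFun_act act T hTa (χ₀ : T → ℂ) s x]
    conv_rhs => rw [← h8]
    rfl

include R in
/-- Invariant characters of `X` and `H` correspond by odd multiplicity. -/
theorem main :
    (∀ χ : Cfsg.IrrCharacter X, (∀ s x, (χ : X → ℂ) (act s x) = (χ : X → ℂ) x) →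
      ∃! ψ : Cfsg.IrrCharacter H, InvOn act H (ψ : H → ℂ) ∧
        ∃ m : ℕ, Cfsg.classInner (fun h : H => (χ : X → ℂ) h) ψ = (m : ℂ) ∧ Odd m) ∧
    (∀ χ χ' : Cfsg.IrrCharacter X, (∀ s x, (χ : X → ℂ) (act s x) = (χ : X → ℂ) x) →
      (∀ s x, (χ' : X → ℂ) (act s x) = (χ' : X → ℂ) x) →
      ∀ ψ : Cfsg.IrrCharacter H, InvOn act H (ψ : H → ℂ) → ∀ m m' : ℕ,
      Cfsg.classInner (fun h : H => (χ : X → ℂ) h) ψ = (m : ℂ) → Odd m →
      Cfsg.classInner (fun h : H => (χ' : X → ℂ) h) ψ = (m' : ℂ) → Odd m' → χ = χ') ∧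
    ∀ ψ : Cfsg.IrrCharacter H, InvOn act H (ψ : H → ℂ) →
      ∃ χ : Cfsg.IrrCharacter X, (∀ s x, (χ : X → ℂ) (act s x) = (χ : X → ℂ) x) ∧
        ∃ m : ℕ, Cfsg.classInner (fun h : H => (χ : X → ℂ) h) ψ = (m : ℂ) ∧ Odd m := by
  classical
  have hLH : L ≤ H := L_le_H R
  -- a constituent of an invariant character of `H`, with all its properties
  have hcons : ∀ ψ : Cfsg.IrrCharacter H, InvOn act H (ψ : H → ℂ) →
      ∃ φ : Cfsg.IrrCharacter L, InvOn act L (φ : L → ℂ) ∧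
        Cfsg.classInner ((ψ : H → ℂ) ∘ Subgroup.inclusion hLH) φ ≠ 0 := by
    intro ψ hψ
    obtain ⟨φ, hφ⟩ := exists_constituent
      (isCharacter_comp (Subgroup.inclusion hLH) (isCharacter_irr ψ))
      (fun h => apply_one_ne_zero ψ (congrFun h 1))
    exact ⟨φ, constituent_inv R ψ hψ φ hφ, hφ⟩
  have hup : ∀ (χ : Cfsg.IrrCharacter X) (ψ : Cfsg.IrrCharacter H) (φ : Cfsg.IrrCharacter L)
      (m : ℕ), Cfsg.classInner (fun h : H => (χ : X → ℂ) h) ψ = (m : ℂ) → Odd m →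
      Cfsg.classInner ((ψ : H → ℂ) ∘ Subgroup.inclusion hLH) φ ≠ 0 →
      Cfsg.classInner (fun n : L => (χ : X → ℂ) n) φ ≠ 0 := by
    intro χ ψ φ m hm hodd hφ
    exact classInner_comp_ne_zero (Subgroup.inclusion hLH)
      (isCharacter_comp H.subtype (isCharacter_irr χ)) (a := ψ)
      (fun h0 => hodd.pos.ne' (Nat.cast_eq_zero.mp (hm.symm.trans h0))) hφ
  refine ⟨fun χ hχ => ?_, fun χ χ' hχ hχ' ψ hψ m m' hm hodd hm' hodd' => ?_, fun ψ hψ => ?_⟩
  · obtain ⟨φ, hover, hφ⟩ := exists_inv_constituent R χ hχ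
    obtain ⟨ξ, hξ, hmξ, huniq⟩ := (local_correspondence R φ hφ).1 χ hχ hover
    refine ⟨ξ, ⟨hξ, hmξ⟩, fun ψ' ⟨hψ', m, hm, hodd⟩ => huniq ψ' m ?_ hm hodd⟩
    obtain ⟨φ', hφ', hφ'ψ⟩ := hcons ψ' hψ'
    obtain ⟨x, hx⟩ := exists_conj_of_constituents L χ.2 hover (hup χ ψ' φ' m hm hodd hφ'ψ)
    obtain ⟨h, hh, k, -, -, he⟩ := uniq R φ hφ (x := x) (by rw [hx]; exact hφ')
    rw [← hx, he] at hφ'ψ
    have e : Cfsg.classInner ((ψ' : H → ℂ) ∘ Subgroup.inclusion hLH) (conjC L h (φ : L → ℂ)) =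
        Cfsg.classInner ((ψ' : H → ℂ) ∘ Subgroup.inclusion hLH) φ :=
      inner_equiv (MulAut.conjNormal h : MulAut L)
        (fun n => by
          have h1 := isClassFunction_irr ψ' (Subgroup.inclusion hLH n) ⟨h, hh⟩
          refine h1.symm.trans (congrArg (ψ' : H → ℂ) (Subtype.ext ?_))
          simp)
        fun n => rfl
    rwa [e] at hφ'ψ
  · obtain ⟨φ, hφ, hφψ⟩ := hcons ψ hψ
    exact (local_correspondence R φ hφ).2.1 χ χ' hχ hχ' (hup χ ψ φ m hm hodd hφψ)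
      (hup χ' ψ φ m' hm' hodd' hφψ) ψ m m' hφψ hm hodd hm' hodd'
  · obtain ⟨φ, hφ, hφψ⟩ := hcons ψ hψ
    exact (local_correspondence R φ hφ).2.2 ψ hψ hφψ

end Cfsg.Agent.Lib.BC78.Parity.Reduce
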