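import Cfsg.Agent.Lib.BC78.Parity.AntipodeMain

/-!
# The antipode operator
-/

set_option autoImplicit false

namespace Cfsg.Agent.Lib.BC78.Parity

open Cfsg.Agent.Lib.Clifford

universe u v w w'

variable {K : Type u} [Group K] [Fintype K] {L : Subgroup K} [hLn : L.Normal] [Fintype L]
  {W : Type w} [AddCommGroup W] [Module ℂ W] [FiniteDimensional ℂ W] {U : Type w'}
  [AddCommGroup U] [Module ℂ U] [FiniteDimensional ℂ U] {S : Type v} [Group S] [Finite S]
  {σ : Representation ℂ K W} {τ : Representation ℂ L U} {act : S →* MulAut K} {e : ℕ}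

omit [Finite S] in
/-- Every element of the commutant of `L` is a combination of twisting operators. -/
theorem commutant_induction [σ.IsIrreducible] (hodd : Odd (Nat.card K))
    (hab : ∀ a b : K, a * b * a⁻¹ * b⁻¹ ∈ L) (P : Module.End ℂ W → Prop) (h0 : P 0)
    (hadd : ∀ x y, P x → P y → P (x + y)) (hsmul : ∀ (c : ℂ) x, P x → P (c • x))
    (htw : ∀ a : tw L σ hodd, P ((a : (Module.End ℂ W)ˣ) : Module.End ℂ W))
    (x : Module.End ℂ W) (hx : ∀ l ∈ L, x * σ l = σ l * x) : P x := by
  classical
  have := Rep.nontrivial_of_irreducible σ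
  have hq : ∀ a b : K ⧸ L, a * b = b * a := by
    intro a b
    induction a using QuotientGroup.induction_on with
    | H a => induction b using QuotientGroup.induction_on with
      | H b =>
        rw [← QuotientGroup.mk_mul, ← QuotientGroup.mk_mul, QuotientGroup.eq]
        simpa [mul_assoc] using hab b⁻¹ a⁻¹
  obtain ⟨s, -, hs1, hs2⟩ := LinTwist.exists_dual (G := K) (L := L) hq
  let comp : (K →* ℂˣ) → Module.End ℂ W := fun lam =>
    (Nat.card K : ℂ)⁻¹ • ∑ k, (lam k⁻¹ : ℂ) • (σ k * x * σ k⁻¹)
  have hcomp : ∀ lam, ∀ j, σ j * comp lam = (lam j : ℂ) • (comp lam * σ j) := by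
    intro lam j
    simp only [comp, mul_smul_comm, smul_mul_assoc, Finset.mul_sum, Finset.sum_mul,
      smul_comm (lam j : ℂ) _]
    congr 1
    rw [Finset.smul_sum]
    refine Fintype.sum_equiv (Equiv.mulLeft j) _ _ fun k => ?_
    rw [smul_smul]
    simp only [Equiv.coe_mulLeft, mul_inv_rev, map_mul, map_inv, Units.val_mul]
    rw [show (lam j : ℂ) * (((lam k)⁻¹ : ℂˣ) * ((lam j)⁻¹ : ℂˣ)) = ((lam k)⁻¹ : ℂˣ) from by
      rw [mul_comm (((lam k)⁻¹ : ℂˣ) : ℂ), ← mul_assoc, Units.mul_inv, one_mul]]
    congr 1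
    simp only [mul_assoc]
    rw [← map_mul σ j⁻¹, inv_mul_cancel, map_one, mul_one]
  have hsum : ∑ lam ∈ s, comp lam = x := by
    simp only [comp, ← Finset.smul_sum]
    rw [Finset.sum_comm]
    simp only [← Finset.sum_smul, hs2]
    have h1 : ∑ k : K, ((L.index : ℂ) * (if k⁻¹ ∈ L then 1 else 0)) • (σ k * x * σ k⁻¹) =
        ∑ k ∈ Finset.univ.filter (· ∈ L), (L.index : ℂ) • x := by
      rw [Finset.sum_filter]
      refine Finset.sum_congr rfl fun k _ => ?_
      by_cases hk : k ∈ L
      · rw [if_pos (L.inv_mem hk), if_pos hk, mul_one, ← hx k hk, mul_assoc, ← map_mul]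
        simp
      · rw [if_neg (fun h => hk (by simpa using L.inv_mem h)), if_neg hk, mul_zero, zero_smul]
    rw [h1, Finset.sum_const, ← Fintype.card_subtype, ← Nat.card_eq_fintype_card,
      ← Nat.cast_smul_eq_nsmul ℂ, smul_smul, smul_smul]
    have h2 : (Nat.card L : ℂ) * L.index = Nat.card K := by
      rw [← Nat.cast_mul, L.card_mul_index]
    rw [show Nat.card {k // k ∈ L} = Nat.card L from rfl, mul_assoc, h2,
      inv_mul_cancel₀ (Nat.cast_ne_zero.mpr Nat.card_pos.ne'), one_smul]
  rw [← hsum]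
  refine Finset.sum_induction _ P hadd h0 fun lam hlam => ?_
  by_cases hy : comp lam = 0
  · rw [hy]; exact h0
  have hker : LinearMap.ker (comp lam) = ⊥ := by
    let p : Subrepresentation σ :=
      { toSubmodule := LinearMap.ker (comp lam)
        apply_mem_toSubmodule := fun j w hw => by
          rw [LinearMap.mem_ker] at hw ⊢
          have h : σ j (comp lam w) = (lam j : ℂ) • comp lam (σ j w) :=
            LinearMap.congr_fun (hcomp lam j) w
          rw [hw, map_zero] at h
          exact (smul_eq_zero.1 h.symm).resolve_left (Units.ne_zero _) }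
    rcases IsSimpleOrder.eq_bot_or_eq_top p with h | h
    · exact congrArg Subrepresentation.toSubmodule h
    · exact absurd (LinearMap.ker_eq_top.1 (congrArg Subrepresentation.toSubmodule h)) hy
  obtain ⟨y, hy'⟩ := LinearMap.isUnit_iff_ker_eq_bot _ |>.2 hker
  have hyT : Twist L σ lam y := ⟨hs1 lam hlam, by rw [hy']; exact hcomp lam⟩
  have hpow : Twist L σ 1 (y ^ Nat.card K) := by
    rw [← pow_card_eq_one (lam := lam)]
    exact hyT.pow _
  obtain ⟨c, hc⟩ := hpow.eq_sc
  obtain ⟨d, hd⟩ := IsAlgClosed.exists_pow_nat_eq (c : ℂ) (n := Nat.card K) Nat.card_pos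
  have hd0 : d ≠ 0 := by
    rintro rfl
    rw [zero_pow Nat.card_pos.ne'] at hd
    exact c.ne_zero hd.symm
  have ha : (sc (Units.mk0 d hd0))⁻¹ * y ∈ tw L σ hodd := by
    refine ⟨⟨1⁻¹ * lam, (Twist.scalar _).inv.mul hyT⟩, ?_⟩
    rw [(show Commute (sc (Units.mk0 d hd0)) y from (sc_comm _ _).symm).inv_left.mul_pow, inv_pow,
      ← map_pow, hc, show Units.mk0 d hd0 ^ Nat.card K = c from Units.ext hd, inv_mul_cancel]
  have h := hsmul d _ (htw ⟨_, ha⟩)
  have e2 : d • ((((sc (Units.mk0 d hd0))⁻¹ * y : (Module.End ℂ W)ˣ)) : Module.End ℂ W) =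
      comp lam := by
    rw [← map_inv, Units.val_mul, coe_sc, smul_mul_assoc, one_mul, smul_smul, hy',
      Units.val_inv_eq_inv_val, Units.val_mk0, mul_inv_cancel₀ hd0, one_smul]
  rwa [e2] at h

/-- The antipode. -/
theorem exists_antipode (hs : Setting L σ τ act e) :
    ∃ J : Module.End ℂ W, J * J = 1 ∧ (∀ l ∈ L, J * σ l = σ l * J) ∧
      (∀ j, ∃ c : L → ℂ, σ j * J * σ j * J = ∑ l : L, c l • σ l) ∧
      (∃ t : ℂ, t ≠ 0 ∧ ∀ l : L, LinearMap.trace ℂ W (J * σ l) = t * τ.character l) ∧
      ∀ α : MulAut K, Adm L σ act α → ∀ k,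
        LinearMap.trace ℂ W (J * σ (α k)) = LinearMap.trace ℂ W (J * σ k) := by
  classical
  haveI := hs.irr
  haveI := hs.irrU
  have := Rep.nontrivial_of_irreducible σ
  have := Rep.nontrivial_of_irreducible τ
  haveI : Finite (tw L σ hs.odd) := finite_tw hs.odd
  obtain ⟨r, hr, hrα⟩ := exists_inv_ret hs
  let E := tw L σ hs.odd
  let D := data (L := L) (σ := σ) hs.odd
  let h := Retraction.hlf D
  letI : Fintype {a : E // r a = 1} := Fintype.ofFinite _
  let val : E → Module.End ℂ W := fun a => ((a : (Module.End ℂ W)ˣ) : Module.End ℂ W)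
  let J₀ : Module.End ℂ W := ∑ a : {a : E // r a = 1}, val a.1
  have hval_mul : ∀ a b, val (a * b) = val a * val b := fun a b => rfl
  have hval_sc : ∀ c, val (scTw hs.odd c) = ((c : ℂˣ) : ℂ) • 1 := fun c => coe_sc _
  have hrmul : ∀ a b : {a : E // r a = 1}, r (a.1 * b.1 * a.1) = 1 := fun a b => by
    rw [hr.map_mul, hr.map_mul, a.2, b.2, mul_one, mul_one, mul_one, Retraction.z_mul_left,
      Retraction.z_self, one_mul, ← Subgroup.coe_mul, ← mul_pow, Retraction.z_symm D a.1 b.1,
      inv_mul_cancel, one_pow, Subgroup.coe_one]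
  have hrinv : ∀ a : {a : E // r a = 1}, r a.1⁻¹ = 1 := fun a => by
    rw [hr.map_inv, a.2, inv_one]
  have hJb : ∀ b : {a : E // r a = 1}, val b.1 * J₀ * val b.1 = J₀ := fun b => by
    simp only [J₀, Finset.mul_sum, Finset.sum_mul]
    exact Fintype.sum_equiv
      { toFun := fun a => ⟨b.1 * a.1 * b.1, hrmul b a⟩
        invFun := fun a => ⟨b.1⁻¹ * a.1 * b.1⁻¹, hrmul ⟨b.1⁻¹, hrinv b⟩ a⟩
        left_inv := fun a => Subtype.ext (by group)
        right_inv := fun a => Subtype.ext (by group) } _ _ fun a => rfl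
  -- every twisting operator is a scalar times a normalised one
  have hnorm : ∀ a : E, ∃ (c : ℂˣ) (b : {a : E // r a = 1}), val a = (c : ℂ) • val b.1 := fun a => by
    let c : rootsOfUnity (Nat.card K) ℂ := ⟨r a, (mem_rootsOfUnity _ _).2 (hr.pow_N a)⟩
    have hb : r ((scTw hs.odd c)⁻¹ * a) = 1 := by
      rw [← map_inv, hr.map_mul, Retraction.z_scalar_left, one_pow, hr.map_scalar,
        Subgroup.coe_one, one_mul, Subgroup.coe_inv, inv_mul_cancel]
    refine ⟨r a, ⟨_, hb⟩, ?_⟩
    rw [hval_mul, ← map_inv, hval_sc, smul_mul_assoc, one_mul, smul_smul, Subgroup.coe_inv]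
    simp [c]
  have htr1 : ∀ (b : {a : E // r a = 1}), lamHom hs.odd b.1 = 1 → b.1 = 1 := fun b hb => by
    have h := lamHom_spec hs.odd b.1
    rw [hb] at h
    obtain ⟨c, hc⟩ := exists_scTw hs.odd b.1 h
    have h2 := b.2
    rw [hc, hr.map_scalar] at h2
    rw [hc, show c = 1 from Subtype.ext h2, map_one]
  have htr0 : ∀ a : E, lamHom hs.odd a ≠ 1 → LinearMap.trace ℂ W (val a) = 0 := fun a ha => by
    obtain ⟨k, hk⟩ : ∃ k, lamHom hs.odd a k ≠ 1 := by
      by_contra hcon
      push Not at hcon
      exact ha (MonoidHom.ext hcon)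
    have h1 := congrArg (LinearMap.trace ℂ W) (congrArg (· * σ k⁻¹) ((lamHom_spec hs.odd a).2 k))
    simp only [smul_mul_assoc, map_smul, smul_eq_mul] at h1
    rw [LinearMap.trace_mul_cycle, ← map_mul, inv_mul_cancel, map_one, one_mul, mul_assoc,
      ← map_mul, mul_inv_cancel, map_one, mul_one] at h1
    have h2 : ((lamHom hs.odd a k : ℂ) - 1) * LinearMap.trace ℂ W (val a) = 0 := by
      rw [sub_mul, one_mul, ← h1, sub_self]
    refine (mul_eq_zero.1 h2).resolve_left fun h3 => hk (Units.ext ?_)
    simpa [sub_eq_zero] using h3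
  let one' : {a : E // r a = 1} := ⟨1, hr.map_one'⟩
  have hone : lamHom hs.odd one'.1 = 1 := map_one (lamHom hs.odd)
  have hJtr : LinearMap.trace ℂ W J₀ = (Module.finrank ℂ W : ℂ) := by
    rw [map_sum, Finset.sum_eq_single one' (fun b _ hb => htr0 _ fun hl =>
      hb (Subtype.ext (htr1 b hl))) (fun hn => absurd (Finset.mem_univ _) hn)]
    exact LinearMap.trace_one ..
  -- nondegeneracy
  have hnd : ∀ c : {a : E // r a = 1}, c.1 ≠ 1 →
      ∃ b : {a : E // r a = 1}, Retraction.z D b.1 c.1 ≠ 1 := by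
    intro c hc
    by_contra hcon
    push Not at hcon
    refine hc (htr1 c ?_)
    by_contra hl
    have hcen : ∀ x : Module.End ℂ W, (∀ l ∈ L, x * σ l = σ l * x) →
        val c.1 * x = x * val c.1 := by
      refine commutant_induction hs.odd hs.comm (fun x => val c.1 * x = x * val c.1) (by simp)
        (fun x y hx hy => by rw [mul_add, add_mul, hx, hy])
        (fun t x hx => by rw [mul_smul_comm, smul_mul_assoc, hx]) fun a => ?_
      obtain ⟨t, b, hab⟩ := hnorm a
      show val c.1 * val a = val a * val c.1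
      rw [hab, mul_smul_comm, smul_mul_assoc, ← hval_mul, ← hval_mul,
        Retraction.z_spec D b.1 c.1, hcon b, map_one, one_mul]
    have hinv_cen : ∀ x : Module.End ℂ W, (∀ g : L, x * σ g = σ g * x) →
        val c.1⁻¹ * x = x * val c.1⁻¹ := fun x hx => by
      have h1 := hcen x fun l hl => hx ⟨l, hl⟩
      calc val c.1⁻¹ * x = val c.1⁻¹ * (x * val c.1) * val c.1⁻¹ := by
            rw [mul_assoc, mul_assoc, ← hval_mul, mul_inv_cancel]
            exact congrArg _ (mul_one x).symm
        _ = x * val c.1⁻¹ := by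
            rw [← h1, ← mul_assoc, ← hval_mul, inv_mul_cancel]
            exact congrArg (· * val c.1⁻¹) (one_mul x)
    obtain ⟨coef, hcoef⟩ := Fourier.mem_span_of_bicommutant τ (σ.comp L.subtype) (m := e)
      (fun l => hs.iso l) (val c.1⁻¹) hinv_cen
    have hzero : ∀ g : L, LinearMap.trace ℂ W (val c.1 * σ g) = 0 := fun g => by
      have h := Fourier.trace_commutant τ (σ.comp L.subtype) (m := e) (fun l => hs.iso l) (val c.1)
        (fun k => (lamHom_spec hs.odd c.1).commute k.2) g
      rw [htr0 _ hl, mul_zero, mul_eq_zero] at h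
      refine h.resolve_right ?_
      rw [Representation.char_one]
      exact Nat.cast_ne_zero.mpr Module.finrank_pos.ne'
    have hbad : LinearMap.trace ℂ W (val c.1 * val c.1⁻¹) = 0 := by
      rw [hcoef, Finset.mul_sum, map_sum]
      refine Finset.sum_eq_zero fun g _ => ?_
      rw [mul_smul_comm, map_smul]
      exact smul_eq_zero_of_right _ (hzero g)
    rw [← hval_mul, mul_inv_cancel, show val 1 = 1 from rfl, LinearMap.trace_one] at hbad
    exact Nat.cast_ne_zero.mpr Module.finrank_pos.ne' hbad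
  have hJsq : J₀ * J₀ = (Fintype.card {a : E // r a = 1} : ℂ) • 1 := by
    have hr2 : ∀ a c : {a : E // r a = 1},
        r ((scTw hs.odd (Retraction.z D a.1 c.1 ^ h)) * (a.1⁻¹ * c.1)) = 1 := fun a c => by
      rw [hr.map_mul, Retraction.z_scalar_left, one_pow, hr.map_scalar, hr.map_mul,
        hr.map_inv, a.2, c.2, Subgroup.coe_one, one_mul, inv_one, mul_one, mul_one,
        Retraction.z_inv_left, ← Subgroup.coe_mul, inv_pow, mul_inv_cancel, Subgroup.coe_one]
    have hr3 : ∀ a b : {a : E // r a = 1},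
        r ((scTw hs.odd (Retraction.z D a.1 b.1 ^ h)⁻¹) * (a.1 * b.1)) = 1 := fun a b => by
      rw [hr.map_mul, Retraction.z_scalar_left, one_pow, hr.map_scalar, hr.map_mul, a.2, b.2,
        Subgroup.coe_one, one_mul, mul_one, mul_one, ← Subgroup.coe_mul, inv_mul_cancel,
        Subgroup.coe_one]
    have hinner : ∀ a : {a : E // r a = 1}, ∑ b : {a : E // r a = 1}, val a.1 * val b.1 =
        ∑ c : {a : E // r a = 1},
          (((Retraction.z D a.1 c.1 ^ h : rootsOfUnity (Nat.card K) ℂ) : ℂˣ) : ℂ) • val c.1 :=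
      fun a => by
      refine (Fintype.sum_equiv
        { toFun := fun c => ⟨_, hr2 a c⟩
          invFun := fun b => ⟨_, hr3 a b⟩
          left_inv := fun c => Subtype.ext (by
            simp only [Retraction.z_mul_right, Retraction.z_scalar_right, one_mul, map_inv]
            rw [Retraction.z_symm D a.1⁻¹ a.1, Retraction.z_inv_left, Retraction.z_self, inv_one,
              inv_one, one_mul, ← mul_assoc a.1, D.central, mul_assoc (scTw hs.odd _) a.1,
              mul_inv_cancel_left, inv_mul_cancel_left])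
          right_inv := fun b => Subtype.ext (by
            simp only [Retraction.z_mul_right, Retraction.z_scalar_right, one_mul,
              Retraction.z_self]
            rw [← mul_assoc a.1⁻¹, D.central, mul_assoc (scTw hs.odd _) a.1⁻¹, inv_mul_cancel_left,
              ← mul_assoc, ← map_mul, mul_inv_cancel, map_one, one_mul]) } _ _ fun c => ?_).symm
      show _ = val a.1 * val (scTw hs.odd (Retraction.z D a.1 c.1 ^ h) * (a.1⁻¹ * c.1))
      rw [← hval_mul, ← mul_assoc, D.central, mul_assoc, mul_inv_cancel_left, hval_mul, hval_sc,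
        smul_mul_assoc, one_mul]
    calc J₀ * J₀ = ∑ a : {a : E // r a = 1}, ∑ b : {a : E // r a = 1}, val a.1 * val b.1 :=
          Finset.sum_mul_sum ..
      _ = ∑ c : {a : E // r a = 1}, (∑ a : {a : E // r a = 1},
          (((Retraction.z D a.1 c.1 ^ h : rootsOfUnity (Nat.card K) ℂ) : ℂˣ) : ℂ)) • val c.1 := by
        simp only [hinner, Finset.sum_smul]
        exact Finset.sum_comm
      _ = _ := by
        rw [Finset.sum_eq_single one']
        · simp only [one']
          rw [show val 1 = 1 from rfl]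
          congr 1
          have h1 : ∀ a : E, Retraction.z D a 1 = 1 := fun a => by
            rw [Retraction.z_symm, Retraction.z_one_left, inv_one]
          simp [h1]
        · intro c _ hc
          obtain ⟨b, hb⟩ := hnd c fun h1 => hc (Subtype.ext h1)
          have hbh : ((Retraction.z D b.1 c.1 ^ h : rootsOfUnity (Nat.card K) ℂ) : ℂˣ) ≠ 1 := by
            intro h1
            have h2 : Retraction.z D b.1 c.1 ^ h = 1 := Subtype.ext h1
            exact hb (by rw [← Retraction.half_sq D b.1 c.1, h2, one_mul])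
          refine smul_eq_zero_of_left ?_ _
          set F : {a : E // r a = 1} → ℂ := fun a =>
            (((Retraction.z D a.1 c.1 ^ h : rootsOfUnity (Nat.card K) ℂ) : ℂˣ) : ℂ)
          have hshift : ∑ a, F a = (((Retraction.z D b.1 c.1 ^ h :
              rootsOfUnity (Nat.card K) ℂ) : ℂˣ) : ℂ) * ∑ a, F a := by
            rw [Finset.mul_sum]
            refine (Fintype.sum_equiv
              { toFun := fun a => ⟨_, hr3 b a⟩
                invFun := fun a => ⟨_, hr2 b a⟩
                left_inv := fun a => Subtype.ext (by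
                  simp only [Retraction.z_mul_right, Retraction.z_scalar_right, one_mul,
                    Retraction.z_self]
                  rw [← mul_assoc b.1⁻¹, D.central, mul_assoc (scTw hs.odd _) b.1⁻¹,
                    inv_mul_cancel_left, ← mul_assoc, ← map_mul, mul_inv_cancel, map_one, one_mul])
                right_inv := fun a => Subtype.ext (by
                  simp only [Retraction.z_mul_right, Retraction.z_scalar_right, one_mul, map_inv]
                  rw [Retraction.z_symm D b.1⁻¹ b.1, Retraction.z_inv_left, Retraction.z_self,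
                    inv_one, inv_one, one_mul, ← mul_assoc b.1, D.central,
                    mul_assoc (scTw hs.odd _) b.1, mul_inv_cancel_left, inv_mul_cancel_left]) }
              _ _ fun a => ?_).symm
            show _ = F ⟨scTw hs.odd (Retraction.z D b.1 a.1 ^ h)⁻¹ * (b.1 * a.1), hr3 b a⟩
            simp only [F, Retraction.z_mul_left, Retraction.z_scalar_left, one_mul, mul_pow,
              Subgroup.coe_mul, Units.val_mul]
          have h3 : (((((Retraction.z D b.1 c.1 ^ h : rootsOfUnity (Nat.card K) ℂ) : ℂˣ) : ℂ)) - 1)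
              * ∑ a, F a = 0 := by rw [sub_mul, one_mul, ← hshift, sub_self]
          exact (mul_eq_zero.1 h3).resolve_left fun h4 => hbh (Units.ext (sub_eq_zero.1 h4))
        · exact fun hn => absurd (Finset.mem_univ _) hn
  have hcard : (Fintype.card {a : E // r a = 1} : ℂ) ≠ 0 :=
    Nat.cast_ne_zero.mpr (Fintype.card_pos_iff.2 ⟨one'⟩).ne'
  obtain ⟨t, ht⟩ := IsAlgClosed.exists_pow_nat_eq (Fintype.card {a : E // r a = 1} : ℂ)
    (n := 2) two_pos
  have ht0 : t ≠ 0 := by
    rintro rfl
    rw [zero_pow two_ne_zero] at ht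
    exact hcard ht.symm
  have hJcomm : ∀ l ∈ L, J₀ * σ l = σ l * J₀ := fun l hl => by
    simp only [J₀, Finset.sum_mul, Finset.mul_sum]
    exact Finset.sum_congr rfl fun a _ => (lamHom_spec hs.odd a.1).commute hl
  refine ⟨t⁻¹ • J₀, ?_, fun l hl => by rw [smul_mul_assoc, mul_smul_comm, hJcomm l hl], ?_, ?_, ?_⟩
  · rw [smul_mul_smul_comm, hJsq, smul_smul, ← mul_inv, ← pow_two, ht, inv_mul_cancel₀ hcard,
      one_smul]
  · intro j
    refine Fourier.mem_span_of_bicommutant τ (σ.comp L.subtype) (m := e) (fun l => hs.iso l) _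
      fun x hx => ?_
    refine commutant_induction hs.odd hs.comm
      (fun x => σ j * (t⁻¹ • J₀) * σ j * (t⁻¹ • J₀) * x =
        x * (σ j * (t⁻¹ • J₀) * σ j * (t⁻¹ • J₀))) (by simp)
      (fun x y hx hy => by rw [mul_add, add_mul, hx, hy])
      (fun s x hx => by rw [mul_smul_comm, smul_mul_assoc, hx]) ?_ x (fun l hl => hx ⟨l, hl⟩)
    intro a
    obtain ⟨s, b, hab⟩ := hnorm a
    show _ * val a = val a * _
    rw [hab]
    suffices hcore : σ j * J₀ * σ j * J₀ * val b.1 = val b.1 * (σ j * J₀ * σ j * J₀) by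
      simp only [mul_smul_comm, smul_mul_assoc, hcore, smul_comm (s : ℂ)]
    have hlam := (lamHom_spec hs.odd b.1).2 j
    have hinv := (lamHom_spec hs.odd b.1⁻¹).2 j
    rw [map_inv] at hinv
    have e1 : J₀ * val b.1 = val b.1⁻¹ * J₀ := by
      calc J₀ * val b.1 = val b.1⁻¹ * (val b.1 * J₀ * val b.1) := by
            rw [← mul_assoc, ← mul_assoc, ← hval_mul, inv_mul_cancel]
            exact congrArg (· * val b.1) (one_mul J₀).symm
        _ = _ := by rw [hJb b]
    have e2 : J₀ * val b.1⁻¹ = val b.1 * J₀ := by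
      calc J₀ * val b.1⁻¹ = val b.1 * J₀ * val b.1 * val b.1⁻¹ := by rw [hJb b]
        _ = val b.1 * J₀ := by
          rw [mul_assoc _ (val b.1), ← hval_mul, mul_inv_cancel]
          exact mul_one _
    calc σ j * J₀ * σ j * J₀ * val b.1
        = σ j * J₀ * (σ j * val b.1⁻¹) * J₀ := by simp only [mul_assoc, e1]
      _ = ((lamHom hs.odd b.1 j : ℂˣ)⁻¹ : ℂˣ).val • (σ j * (J₀ * val b.1⁻¹) * σ j * J₀) := by
          rw [show σ j * val b.1⁻¹ = _ from hinv]
          simp only [mul_smul_comm, smul_mul_assoc, mul_assoc]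
          rfl
      _ = ((lamHom hs.odd b.1 j : ℂˣ)⁻¹ : ℂˣ).val • ((σ j * val b.1) * J₀ * σ j * J₀) := by
          rw [e2]; simp only [mul_assoc]
      _ = val b.1 * (σ j * J₀ * σ j * J₀) := by
          rw [show σ j * val b.1 = _ from hlam]
          simp only [smul_mul_assoc, smul_smul, ← Units.val_mul, inv_mul_cancel, Units.val_one,
            one_smul, mul_assoc]
          rfl
  · refine ⟨t⁻¹ * (Module.finrank ℂ W : ℂ) / (Module.finrank ℂ U : ℂ), ?_, fun l => ?_⟩
    · exact div_ne_zero (mul_ne_zero (inv_ne_zero ht0)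
        (Nat.cast_ne_zero.mpr Module.finrank_pos.ne'))
        (Nat.cast_ne_zero.mpr Module.finrank_pos.ne')
    · have h1 := Fourier.trace_commutant τ (σ.comp L.subtype) (m := e) (fun l => hs.iso l) J₀
        (fun k => hJcomm k k.2) l
      rw [hJtr, Representation.char_one] at h1
      rw [smul_mul_assoc, map_smul, smul_eq_mul]
      have hU : (Module.finrank ℂ U : ℂ) ≠ 0 := Nat.cast_ne_zero.mpr Module.finrank_pos.ne'
      have h2 : LinearMap.trace ℂ W (J₀ * σ l) =
          τ.character l * (Module.finrank ℂ W : ℂ) / (Module.finrank ℂ U : ℂ) := by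
        rw [eq_div_iff hU]; exact h1
      rw [h2]
      ring
  · intro α hα k
    obtain ⟨P, hP⟩ := exists_intw (σ := σ) α hα.inv
    have hPJ : (P : Module.End ℂ W) * J₀ = J₀ * P := by
      have hconj : (P : Module.End ℂ W) * J₀ * (↑P⁻¹ : Module.End ℂ W) = J₀ := by
        simp only [J₀, Finset.mul_sum, Finset.sum_mul]
        refine Fintype.sum_equiv (Equiv.ofBijective (fun a : {a : E // r a = 1} =>
          (⟨gam hs.odd α ⟨hα.stab, hα.inv⟩ a.1, by rw [hrα α hα]; exact a.2⟩ :
            {a : E // r a = 1})) ?_) _ _ fun a => ?_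
        · refine (Finite.injective_iff_bijective).1 fun a b hab => Subtype.ext ?_
          have h1 := congrArg (fun x : {a : E // r a = 1} =>
            ((x.1 : E) : (Module.End ℂ W)ˣ)) hab
          simp only [coe_gam hs.odd α _ hP] at h1
          exact Subtype.ext (mul_left_cancel (mul_right_cancel h1))
        · show _ = val (gam hs.odd α _ a.1)
          simp only [val, coe_gam hs.odd α _ hP, Units.val_mul]
      calc (P : Module.End ℂ W) * J₀ = (P : Module.End ℂ W) * J₀ * ↑P⁻¹ * P := by
            rw [Units.inv_mul_cancel_right]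
        _ = J₀ * P := by rw [hconj]
    rw [smul_mul_assoc, map_smul, smul_mul_assoc, map_smul]
    congr 1
    have h1 : σ (α k) = (P : Module.End ℂ W) * σ k * ↑P⁻¹ := by
      rw [hP k, Units.mul_inv_cancel_right]
    rw [h1, ← mul_assoc, ← mul_assoc, ← hPJ, LinearMap.trace_mul_cycle, ← mul_assoc,
      Units.inv_mul, one_mul]

end Cfsg.Agent.Lib.BC78.Parity
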