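import Cfsg.Agent.Lib.BC78.Parity.Core
import Cfsg.Agent.Lib.BC78.Parity.Invariant

/-!
# Reduction to an invariant character
-/

set_option autoImplicit false

namespace Cfsg.Agent.Lib.BC78.Parity.Reduce

open scoped ComplexConjugate
open Cfsg.Agent.Lib.Induced.Basic Cfsg.Agent.Lib.Characters.Basic Cfsg.Agent.Lib.Characters
open Cfsg.Agent.Lib.Clifford Cfsg.Agent.Lib.Clifford.Basic Cfsg.Agent.Lib.RelGlauberman

universe u v

variable {X : Type u} [Group X] [Fintype X] {S : Type v} [Group S] [Finite S]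

/-- The situation of an abelian section with fixed point free action. -/
structure Red (act : S →* MulAut X) (K L H : Subgroup X) : Prop where
  le : L ≤ K
  comm : ∀ a ∈ K, ∀ b ∈ K, a * b * a⁻¹ * b⁻¹ ∈ L
  inf : K ⊓ H = L
  sup : ∀ x : X, ∃ h ∈ H, ∃ k ∈ K, x = h * k
  odd : Odd (Nat.card X)
  cop : (Nat.card X).Coprime (Nat.card S)
  stabK : ∀ s, ∀ x ∈ K, act s x ∈ K
  stabL : ∀ s, ∀ x ∈ L, act s x ∈ L
  cent : ∀ s, ∀ h ∈ H, act s h * h⁻¹ ∈ L
  fpf : ∀ k ∈ K, (∀ s, act s k * k⁻¹ ∈ L) → k ∈ L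

variable {act : S →* MulAut X} {K L H : Subgroup X} [hKn : K.Normal] [hLn : L.Normal]
  [Fintype K] [Fintype L] [Fintype H] (R : Red act K L H)

include R in
omit [Fintype K] [Fintype L] [Fintype H] hKn hLn in
theorem L_le_H : L ≤ H := fun x hx => (R.inf ▸ hx : x ∈ K ⊓ H).2

include R in
omit [Fintype K] [Fintype L] [Fintype H] hKn hLn in
theorem stabH (s : S) (x : X) (hx : x ∈ H) : act s x ∈ H := by
  have h := H.mul_mem (L_le_H R (R.cent s x hx)) hx
  rwa [inv_mul_cancel_right] at h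

/-- The composite of a function on `L` with the action. -/
def comp (_ : Red act K L H) (s : S) (φ : L → ℂ) : L → ℂ :=
  fun n => φ ⟨act s n, ‹Red act K L H›.stabL s n n.2⟩

include R in
/-- Constituents of invariant characters of `H` are invariant. -/
theorem constituent_inv (ψ : Cfsg.IrrCharacter H) (hψ : InvOn act H (ψ : H → ℂ))
    (φ : Cfsg.IrrCharacter L)
    (hover : Cfsg.classInner ((ψ : H → ℂ) ∘ Subgroup.inclusion (L_le_H R)) φ ≠ 0) :
    InvOn act L (φ : L → ℂ) := by
  classical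
  intro s x y hy
  let L' : Subgroup H := L.subgroupOf H
  haveI : L'.Normal := inferInstance
  letI : Fintype L' := Fintype.ofFinite _
  let e : L' ≃* L := Subgroup.subgroupOfEquivOfLe (L_le_H R)
  let φ' : Cfsg.IrrCharacter L' :=
    ⟨(φ : L → ℂ) ∘ e.toMonoidHom, isIrrCharacter_comp _ e.surjective φ.2⟩
  let φs : Cfsg.IrrCharacter L' :=
    ⟨(φ : L → ℂ) ∘ ((restrictAct act L R.stabL s).toMonoidHom.comp e.toMonoidHom),
      isIrrCharacter_comp _ ((restrictAct act L R.stabL s).surjective.comp e.surjective) φ.2⟩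
  have h1 : Cfsg.classInner (fun n : L' => (ψ : H → ℂ) n) φ' ≠ 0 := by
    have e1 : Cfsg.classInner (fun n : L' => (ψ : H → ℂ) n) φ' =
        Cfsg.classInner ((ψ : H → ℂ) ∘ Subgroup.inclusion (L_le_H R)) φ := by
      simp only [Cfsg.classInner, Nat.card_congr e.toEquiv]
      congr 1
      exact Fintype.sum_equiv e.toEquiv _ _ fun n => rfl
    rwa [e1]
  have h2 : Cfsg.classInner (fun n : L' => (ψ : H → ℂ) n) φs ≠ 0 := by
    have e1 : Cfsg.classInner (fun n : L' => (ψ : H → ℂ) n) φs =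
        Cfsg.classInner ((ψ : H → ℂ) ∘ Subgroup.inclusion (L_le_H R)) φ := by
      simp only [Cfsg.classInner, Nat.card_congr e.toEquiv]
      congr 1
      refine Fintype.sum_equiv (e.trans (restrictAct act L R.stabL s)).toEquiv _ _ fun n => ?_
      refine congrArg₂ (· * ·) ?_ rfl
      exact (hψ s (n : H) _ rfl).symm
    rwa [e1]
  obtain ⟨g, hg⟩ := exists_conj_of_constituents L' ψ.2 h1 h2
  have he : (fun n : L => (φ : L → ℂ) ⟨act s n, R.stabL s n n.2⟩) = conjC L (g : X) (φ : L → ℂ) := by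
    funext n
    exact (congrFun hg (e.symm n)).symm
  have := Invariant.comp_eq_self L R.stabL R.cop (R.cent s (g : X) g.2) (isClassFunction_irr φ) he x
  exact (congrArg (φ : L → ℂ) (Subtype.ext hy)).trans this

include R in
omit [Fintype H] in
/-- The orbit of a character under `K` contains an invariant one when it is stable, and at most
one. -/
theorem orbit :
    (∀ φ : Cfsg.IrrCharacter L, (∀ s, ∃ k ∈ K, comp R s (φ : L → ℂ) = conjC L k φ) →
      ∃ k ∈ K, InvOn act L (conjC L k (φ : L → ℂ))) ∧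
    ∀ φ : Cfsg.IrrCharacter L, InvOn act L (φ : L → ℂ) → ∀ k ∈ K,
      InvOn act L (conjC L k (φ : L → ℂ)) → conjC L k (φ : L → ℂ) = φ := by
  classical
  let L' : Subgroup K := L.subgroupOf K
  haveI : L'.Normal := inferInstance
  letI : CommGroup (K ⧸ L') :=
    { (inferInstance : Group (K ⧸ L')) with
      mul_comm := fun a b => by
        induction a using QuotientGroup.induction_on with
        | H a => induction b using QuotientGroup.induction_on with
          | H b =>
            rw [← QuotientGroup.mk_mul, ← QuotientGroup.mk_mul, QuotientGroup.eq]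
            show ((a * b)⁻¹ * (b * a) : X) ∈ L
            simpa [mul_assoc] using R.comm _ (K.inv_mem b.2) _ (K.inv_mem a.2) }
  let sm : K → Cfsg.IrrCharacter L → Cfsg.IrrCharacter L := fun k φ =>
    ⟨conjC L ((k : X)⁻¹) (φ : L → ℂ), isIrrCharacter_conjC L _ φ.2⟩
  have hwd : ∀ a b : K, a⁻¹ * b ∈ L' → sm a = sm b := fun a b hab => funext fun φ =>
    Subtype.ext (by
      show conjC L (a : X)⁻¹ (φ : L → ℂ) = conjC L (b : X)⁻¹ (φ : L → ℂ)
      rw [← conjC_of_mem L (isClassFunction_irr φ) (L.inv_mem (Subgroup.mem_subgroupOf.1 hab))]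
      rw [← conjC_mul, ← conjC_mul]
      have e : (((a⁻¹ * b : K) : X))⁻¹ * (a : X)⁻¹ = (b : X)⁻¹ := by
        simp
      rw [e]
      conv_rhs => rw [conjC_mul, conjC_of_mem L (isClassFunction_irr φ)
        (L.inv_mem (Subgroup.mem_subgroupOf.1 hab))])
  letI : MulAction (K ⧸ L') (Cfsg.IrrCharacter L) :=
    { smul := fun q φ => Quotient.liftOn' q (fun k => sm k φ) fun a b hab =>
        congrFun (hwd a b (QuotientGroup.leftRel_apply.1 hab)) φ
      one_smul := fun φ => Subtype.ext (by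
        show conjC L ((1 : K) : X)⁻¹ _ = _
        rw [OneMemClass.coe_one, inv_one, conjC_one])
      mul_smul := fun p q φ => by
        induction p using QuotientGroup.induction_on with
        | H a => induction q using QuotientGroup.induction_on with
          | H b =>
            refine Subtype.ext ?_
            show conjC L ((a * b : K) : X)⁻¹ _ = conjC L (a : X)⁻¹ (conjC L (b : X)⁻¹ _)
            rw [Subgroup.coe_mul, mul_inv_rev, conjC_mul] }
  letI : MulAction S (Cfsg.IrrCharacter L) :=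
    { smul := fun s φ => ⟨(φ : L → ℂ) ∘ (restrictAct act L R.stabL s⁻¹).toMonoidHom,
        isIrrCharacter_comp _ (restrictAct act L R.stabL s⁻¹).surjective φ.2⟩
      one_smul := fun φ => Subtype.ext (funext fun n =>
        congrArg (φ : L → ℂ) (Subtype.ext (by simp [restrictAct])))
      mul_smul := fun s t φ => Subtype.ext (funext fun n =>
        congrArg (φ : L → ℂ) (Subtype.ext (by simp [restrictAct, mul_inv_rev]))) }
  let sA : S →* MulAut (K ⧸ L') := quotAct (restrictAct act K R.stabK) L' fun s x hx =>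
    Subgroup.mem_subgroupOf.2 (R.stabL s _ hx)
  have hcomp : ∀ (s : S) (a : K ⧸ L') (φ : Cfsg.IrrCharacter L), s • a • φ = sA s a • s • φ := by
    intro s a φ
    induction a using QuotientGroup.induction_on with
    | H k =>
      refine Subtype.ext (funext fun n => congrArg (φ : L → ℂ) (Subtype.ext ?_))
      simp [restrictAct]
  have hN : ∀ a : K ⧸ L', a ^ Nat.card (K ⧸ L') = 1 := fun a => pow_card_eq_one'
  have hcop : (Nat.card (K ⧸ L')).Coprime (Nat.card S) :=
    R.cop.coprime_dvd_left ((L'.card_quotient_dvd_card).trans K.card_subgroup_dvd_card)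
  have hinvfix : ∀ φ : Cfsg.IrrCharacter L, InvOn act L (φ : L → ℂ) ↔ ∀ s : S, s • φ = φ := by
    intro φ
    constructor
    · exact fun h s => Subtype.ext (funext fun n => h s⁻¹ n _ rfl)
    · intro h s x y hy
      have h1 := congrFun (congrArg Subtype.val (h s⁻¹)) x
      rw [show ((s⁻¹ • φ : Cfsg.IrrCharacter L) : L → ℂ) x =
        (φ : L → ℂ) (restrictAct act L R.stabL s⁻¹⁻¹ x) from rfl, inv_inv] at h1
      rw [← h1]
      exact congrArg (φ : L → ℂ) (Subtype.ext hy)
  refine ⟨fun φ hφ => ?_, fun φ hφ k hk hk' => ?_⟩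
  · obtain ⟨a, ha⟩ := Torsor.exists_fixed sA hcomp hN hcop φ fun s => by
      obtain ⟨k, hk, he⟩ := hφ s⁻¹
      exact ⟨((⟨k⁻¹, K.inv_mem hk⟩ : K) : K ⧸ L'), Subtype.ext (he.trans (by
        show _ = conjC L (k⁻¹)⁻¹ _
        rw [inv_inv]))⟩
    obtain ⟨k, rfl⟩ := QuotientGroup.mk_surjective a
    exact ⟨(k : X)⁻¹, K.inv_mem k.2, (hinvfix _).2 ha⟩
  · have hfix : ∀ a : K ⧸ L', (∀ s, sA s a = a) → a = 1 := by
      intro a ha
      induction a using QuotientGroup.induction_on with
      | H a =>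
        rw [QuotientGroup.eq_one_iff, Subgroup.mem_subgroupOf]
        refine R.fpf _ a.2 fun s => ?_
        have h := QuotientGroup.eq.1 (ha s).symm
        rw [Subgroup.mem_subgroupOf] at h
        have h' := hLn.conj_mem _ h (a : X)
        simpa [restrictAct, mul_assoc] using h'
    have h1 := Torsor.fixed_unique sA hcomp hN hcop hfix ((hinvfix φ).1 hφ)
      (a := ((⟨k⁻¹, K.inv_mem hk⟩ : K) : K ⧸ L')) ((hinvfix _).1 (by
        show InvOn act L (conjC L (k⁻¹)⁻¹ (φ : L → ℂ))
        rwa [inv_inv]))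
    have h2 : conjC L (k⁻¹)⁻¹ (φ : L → ℂ) = φ := congrArg Subtype.val h1
    rwa [inv_inv] at h2

include R in
omit [Fintype H] in
/-- Elements of `H` preserve invariance. -/
theorem inv_conj (φ : Cfsg.IrrCharacter L) (hφ : InvOn act L (φ : L → ℂ)) {h : X} (hh : h ∈ H) :
    InvOn act L (conjC L h (φ : L → ℂ)) := by
  intro s x y hy
  have hl : h * (act s h)⁻¹ ∈ L := by simpa using L.inv_mem (R.cent s h hh)
  rw [conjC_apply, conjC_apply]
  refine Eq.trans ?_ ((isClassFunction_irr φ
    ⟨act s (h * x * h⁻¹), R.stabL s _ (hLn.conj_mem _ x.2 h)⟩ ⟨_, hl⟩).trans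
    (hφ s ⟨h * x * h⁻¹, hLn.conj_mem _ x.2 h⟩ _ rfl))
  exact congrArg (φ : L → ℂ) (Subtype.ext (by simp [hy, mul_assoc]))

include R in
omit [Fintype H] in
/-- Conjugate invariant characters are conjugate under `H`. -/
theorem uniq (φ : Cfsg.IrrCharacter L) (hφ : InvOn act L (φ : L → ℂ)) {x : X}
    (hx : InvOn act L (conjC L x (φ : L → ℂ))) :
    ∃ h ∈ H, ∃ k ∈ K, x = h * k ∧ conjC L x (φ : L → ℂ) = conjC L h φ := by
  obtain ⟨h, hh, k, hk, rfl⟩ := R.sup x
  refine ⟨h, hh, k, hk, rfl, ?_⟩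
  rw [conjC_mul] at hx ⊢
  exact (orbit R).2 ⟨_, isIrrCharacter_conjC L h φ.2⟩ (inv_conj R φ hφ hh) k hk hx

include R in
omit [Fintype H] in
/-- The inertia group is the product of its parts. -/
theorem inertia_split (φ : Cfsg.IrrCharacter L) (hφ : InvOn act L (φ : L → ℂ)) {x : X}
    (hx : x ∈ inertia L (φ : L → ℂ)) :
    ∃ h ∈ H, ∃ k ∈ K, x = h * k ∧ h ∈ inertia L (φ : L → ℂ) ∧ k ∈ inertia L (φ : L → ℂ) := by
  rw [mem_inertia] at hx
  obtain ⟨h, hh, k, hk, rfl, he⟩ := uniq R φ hφ (x := x) (by rw [hx]; exact hφ)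
  rw [hx] at he
  have hI : h ∈ inertia L (φ : L → ℂ) := he.symm
  refine ⟨h, hh, k, hk, rfl, hI, ?_⟩
  exact ((inertia L (φ : L → ℂ)).mul_mem_cancel_left hI).1 hx

include R in
omit [Fintype H] in
/-- An invariant character of `X` has an invariant constituent on `L`. -/
theorem exists_inv_constituent (χ : Cfsg.IrrCharacter X)
    (hχ : ∀ s x, (χ : X → ℂ) (act s x) = (χ : X → ℂ) x) :
    ∃ φ : Cfsg.IrrCharacter L, Cfsg.classInner (fun n : L => (χ : X → ℂ) n) φ ≠ 0 ∧
      InvOn act L (φ : L → ℂ) := by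
  classical
  obtain ⟨φ₀, hφ₀⟩ := exists_constituent_restrict L χ.2
  let O : (L → ℂ) → (L → ℂ) := fun φ => ∑ k : K, conjC L (k : X) φ
  have hO : ∀ s, ∃ k ∈ K, comp R s (φ₀ : L → ℂ) = conjC L k φ₀ := by
    intro s
    let φs : Cfsg.IrrCharacter L := ⟨(φ₀ : L → ℂ) ∘ (restrictAct act L R.stabL s).toMonoidHom,
      isIrrCharacter_comp _ (restrictAct act L R.stabL s).surjective φ₀.2⟩
    have hs : Cfsg.classInner (fun n : L => (χ : X → ℂ) n) φs ≠ 0 := by
      have e1 : Cfsg.classInner (fun n : L => (χ : X → ℂ) n) φs =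
          Cfsg.classInner (fun n : L => (χ : X → ℂ) n) φ₀ := by
        simp only [Cfsg.classInner]
        congr 1
        refine Fintype.sum_equiv (restrictAct act L R.stabL s).toEquiv _ _ fun n => ?_
        exact congrArg₂ (· * ·) (hχ s n).symm rfl
      rwa [e1]
    obtain ⟨g, hg⟩ := exists_conj_of_constituents L χ.2 hφ₀ hs
    obtain ⟨h, hh, k, hk, rfl⟩ := R.sup g
    have hclass : Cfsg.IsClassFunction L (O φ₀) := isClassFunction_of_isCharacter
      (isCharacter_sum _ fun k _ => isCharacter_conjC L _ (isCharacter_irr φ₀))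
    have hOs : O (φs : L → ℂ) = fun n : L => O φ₀ ⟨act s n, R.stabL s n n.2⟩ := by
      funext n
      simp only [O, Finset.sum_apply]
      refine Fintype.sum_equiv (restrictAct act K R.stabK s).toEquiv _ _ fun k => ?_
      exact congrArg (φ₀ : L → ℂ) (Subtype.ext (by simp [restrictAct]))
    have hOg : O (φs : L → ℂ) = conjC L h (O φ₀) := by
      funext n
      rw [← hg, conjC_apply]
      simp only [O, Finset.sum_apply]
      refine Fintype.sum_equiv ((Equiv.mulLeft (⟨k, hk⟩ : K)).trans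
        (MulAut.conjNormal h : MulAut K).toEquiv) _ _ fun m => ?_
      exact congrArg (φ₀ : L → ℂ) (Subtype.ext (by simp [mul_assoc]))
    have hfix : O (φs : L → ℂ) = O φ₀ := hOs.trans (funext fun n =>
      Invariant.comp_eq_self L R.stabL R.cop (R.cent s h hh) hclass (hOs.symm.trans hOg) n)
    have hne : Cfsg.classInner (O φ₀) φs ≠ 0 := by
      rw [← hfix]
      simp only [O, classInner_sum_left]
      have hterm : ∀ k : K, Cfsg.classInner (conjC L (k : X) (φs : L → ℂ)) φs =
          if (⟨_, isIrrCharacter_conjC L (k : X) φs.2⟩ : Cfsg.IrrCharacter L) = φs then 1 else 0 :=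
        fun k => classInner_irr ⟨_, isIrrCharacter_conjC L (k : X) φs.2⟩ φs
      simp only [hterm, Finset.sum_boole]
      refine Nat.cast_ne_zero.mpr (Finset.card_ne_zero.mpr ⟨1, Finset.mem_filter.2
        ⟨Finset.mem_univ _, Subtype.ext ?_⟩⟩)
      show conjC L ((1 : K) : X) (φs : L → ℂ) = φs
      rw [OneMemClass.coe_one, conjC_one]
    simp only [O, classInner_sum_left] at hne
    obtain ⟨k', -, hk'⟩ := Finset.exists_ne_zero_of_sum_ne_zero hne
    refine ⟨k', k'.2, ?_⟩
    by_contra hcon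
    exact hk' (classInner_irr_of_ne (χ := ⟨_, isIrrCharacter_conjC L (k' : X) φ₀.2⟩)
      fun e => hcon (congrArg Subtype.val e).symm)
  obtain ⟨k, hk, hinv⟩ := (orbit R).1 φ₀ hO
  refine ⟨⟨_, isIrrCharacter_conjC L k φ₀.2⟩, ?_, hinv⟩
  show Cfsg.classInner _ (conjC L k (φ₀ : L → ℂ)) ≠ 0
  rwa [classInner_restrict_conjC L (isClassFunction_irr χ)]

end Cfsg.Agent.Lib.BC78.Parity.Reduce
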