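import Cfsg.Agent.Lib.BC78.Parity.Reduce

/-!
# The invariant character of the section over an invariant character
-/

set_option autoImplicit false

namespace Cfsg.Agent.Lib.BC78.Parity.Reduce

open scoped ComplexConjugate
open Cfsg.Agent.Lib.Induced.Basic Cfsg.Agent.Lib.Characters.Basic Cfsg.Agent.Lib.Characters
open Cfsg.Agent.Lib.Clifford Cfsg.Agent.Lib.Clifford.Basic Cfsg.Agent.Lib.RelGlauberman

universe u v

variable {X : Type u} [Group X] [Fintype X] {S : Type v} [Group S] [Finite S]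
variable {act : S →* MulAut X} {K L H : Subgroup X} [hKn : K.Normal] [hLn : L.Normal]
  [Fintype K] [Fintype L] [Fintype H] (R : Red act K L H)

include R in
/-- Over an invariant character fixed by `X` there is a unique invariant character of `K`, and
every invariant character of `X` over the former lies over it. -/
theorem exists_theta (φ : Cfsg.IrrCharacter L) (hφ : InvOn act L (φ : L → ℂ))
    (hφX : ∀ x, conjC L x (φ : L → ℂ) = φ) :
    ∃ θ : Cfsg.IrrCharacter K, Core.Data act K L H φ θ ∧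
      ∀ χ : Cfsg.IrrCharacter X, (∀ s x, (χ : X → ℂ) (act s x) = (χ : X → ℂ) x) →
        Cfsg.classInner (fun n : L => (χ : X → ℂ) n) φ ≠ 0 →
        Cfsg.classInner (fun k : K => (χ : X → ℂ) k) θ ≠ 0 := by
  classical
  let L' : Subgroup K := L.subgroupOf K
  haveI : L'.Normal := inferInstance
  letI : Fintype L' := Fintype.ofFinite _
  let e : L' ≃* L := Subgroup.subgroupOfEquivOfLe R.le
  let φ' : Cfsg.IrrCharacter L' :=
    ⟨(φ : L → ℂ) ∘ e.toMonoidHom, isIrrCharacter_comp _ e.surjective φ.2⟩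
  have hab : ∀ a b : K ⧸ L', a * b = b * a := by
    intro a b
    induction a using QuotientGroup.induction_on with
    | H a => induction b using QuotientGroup.induction_on with
      | H b =>
        rw [← QuotientGroup.mk_mul, ← QuotientGroup.mk_mul, QuotientGroup.eq]
        show ((a * b)⁻¹ * (b * a) : X) ∈ L
        simpa [mul_assoc] using R.comm _ (K.inv_mem b.2) _ (K.inv_mem a.2)
  have hφ'inv : ∀ k : K, conjC L' k (φ' : L' → ℂ) = φ' := fun k =>
    funext fun n => congrFun (hφX (k : X)) (e n)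
  let Over : Cfsg.IrrCharacter K → Prop := fun θ =>
    Cfsg.classInner (fun n : L' => (θ : K → ℂ) n) φ' ≠ 0
  have hres : ∀ θ, Over θ → ∀ n : L', (θ : K → ℂ) n =
      Cfsg.classInner (fun n : L' => (θ : K → ℂ) n) φ' * (φ' : L' → ℂ) n := fun θ h n =>
    congrFun (restrict_eq_smul L' θ.2 φ' h hφ'inv) n
  -- the dual group acts on the characters over `φ`
  let A : Subgroup (K →* ℂˣ) :=
    { carrier := {l | ∀ x ∈ L', l x = 1}
      one_mem' := fun _ _ => rfl
      mul_mem' := fun {a b} ha hb x hx => by rw [MonoidHom.mul_apply, ha x hx, hb x hx, one_mul]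
      inv_mem' := fun {a} ha x hx => by rw [MonoidHom.inv_apply, ha x hx, inv_one] }
  have hover : ∀ (l : A) (θ : {θ // Over θ}), Over (LinTwist.twist (l : K →* ℂˣ) θ.1) := fun l θ => by
    have e1 : (fun n : L' => (LinTwist.twist (l : K →* ℂˣ) θ.1 : K → ℂ) n) =
        fun n : L' => (θ.1 : K → ℂ) n :=
      funext fun n => by
        rw [LinTwist.twist_apply, l.2 n n.2, Units.val_one, one_mul]
    show Cfsg.classInner _ _ ≠ 0
    rw [e1]
    exact θ.2
  letI : MulAction A {θ // Over θ} :=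
    { smul := fun l θ => ⟨_, hover l θ⟩
      one_smul := fun θ => Subtype.ext (Subtype.ext (funext fun k => by
        show (LinTwist.twist ((1 : A) : K →* ℂˣ) θ.1 : K → ℂ) k = _
        rw [LinTwist.twist_apply, OneMemClass.coe_one, MonoidHom.one_apply, Units.val_one,
          one_mul]))
      mul_smul := fun a b θ => Subtype.ext (Subtype.ext (funext fun k => by
        show (LinTwist.twist ((a * b : A) : K →* ℂˣ) θ.1 : K → ℂ) k =
          (LinTwist.twist (a : K →* ℂˣ) (LinTwist.twist (b : K →* ℂˣ) θ.1) : K → ℂ) k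
        rw [LinTwist.twist_apply, LinTwist.twist_apply, LinTwist.twist_apply, Subgroup.coe_mul,
          MonoidHom.mul_apply, Units.val_mul, mul_assoc])) }
  let rK : S →* MulAut K := restrictAct act K R.stabK
  have hLs : ∀ s, ∀ x ∈ L', rK s x ∈ L' := fun s x hx =>
    Subgroup.mem_subgroupOf.2 (R.stabL s _ hx)
  have hovers : ∀ (s : S) (θ : {θ // Over θ}),
      Over ⟨(θ.1 : K → ℂ) ∘ (rK s).toMonoidHom, isIrrCharacter_comp _ (rK s).surjective θ.1.2⟩ := by
    intro s θ
    have e1 : Cfsg.classInner (fun n : L' => ((θ.1 : K → ℂ) ∘ (rK s).toMonoidHom) n) φ' =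
        Cfsg.classInner (fun n : L' => (θ.1 : K → ℂ) n) φ' := by
      simp only [Cfsg.classInner]
      congr 1
      refine Fintype.sum_equiv (restrictAct rK L' hLs s).toEquiv _ _ fun n => ?_
      refine congrArg₂ (· * ·) rfl (congrArg conj ?_)
      exact (hφ s (e n) (e (restrictAct rK L' hLs s n)) rfl).symm
    show Cfsg.classInner _ _ ≠ 0
    rw [e1]
    exact θ.2
  letI : MulAction S {θ // Over θ} :=
    { smul := fun s θ => ⟨_, hovers s⁻¹ θ⟩
      one_smul := fun θ => Subtype.ext (Subtype.ext (funext fun n =>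
        congrArg (θ.1 : K → ℂ) (Subtype.ext (by simp [rK, restrictAct]))))
      mul_smul := fun s t θ => Subtype.ext (Subtype.ext (funext fun n =>
        congrArg (θ.1 : K → ℂ) (Subtype.ext (by simp [rK, restrictAct, mul_inv_rev])))) }
  let sA : S →* MulAut A := MonoidHom.mk'
    (fun s => MulEquiv.mk'
      { toFun := fun l => ⟨(l : K →* ℂˣ).comp (rK s⁻¹).toMonoidHom, fun x hx => l.2 _ (hLs _ x hx)⟩
        invFun := fun l => ⟨(l : K →* ℂˣ).comp (rK s).toMonoidHom, fun x hx => l.2 _ (hLs _ x hx)⟩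
        left_inv := fun l => Subtype.ext (MonoidHom.ext fun x =>
          congrArg (l : K →* ℂˣ) (Subtype.ext (by simp [rK, restrictAct])))
        right_inv := fun l => Subtype.ext (MonoidHom.ext fun x =>
          congrArg (l : K →* ℂˣ) (Subtype.ext (by simp [rK, restrictAct]))) }
      fun l l' => rfl)
    fun s t => MulEquiv.ext fun l => Subtype.ext (MonoidHom.ext fun x =>
      congrArg (l : K →* ℂˣ) (Subtype.ext (by simp [rK, restrictAct, mul_inv_rev])))
  have hcomp : ∀ (s : S) (l : A) (θ : {θ // Over θ}), s • l • θ = sA s l • s • θ := fun s l θ =>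
    Subtype.ext (Subtype.ext (funext fun k => by
      show (LinTwist.twist (l : K →* ℂˣ) θ.1 : K → ℂ) (rK s⁻¹ k) = _
      rw [LinTwist.twist_apply]
      show _ = (LinTwist.twist ((sA s l : A) : K →* ℂˣ) (s • θ).1 : K → ℂ) k
      rw [LinTwist.twist_apply]
      rfl))
  have hN : ∀ l : A, l ^ Nat.card K = 1 := fun l => Subtype.ext (pow_card_eq_one)
  have hcopK : (Nat.card K).Coprime (Nat.card S) :=
    R.cop.coprime_dvd_left K.card_subgroup_dvd_card
  have htr : ∀ θ θ' : {θ // Over θ}, ∃ l : A, θ' = l • θ := by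
    intro θ θ'
    obtain ⟨l, hl1, hl⟩ := LinTwist.exists_twist L' hab θ.1 θ'.1 (by
      rw [show (fun x : L' => (θ.1 : K → ℂ) x) =
          Cfsg.classInner (fun n : L' => (θ.1 : K → ℂ) n) φ' • (φ' : L' → ℂ) from
        funext (hres _ θ.2),
        show (fun x : L' => (θ'.1 : K → ℂ) x) =
          Cfsg.classInner (fun n : L' => (θ'.1 : K → ℂ) n) φ' • (φ' : L' → ℂ) from
        funext (hres _ θ'.2), classInner_smul_left, classInner_smul_right, classInner_self_irr,
        mul_one]
      exact mul_ne_zero θ.2 (by simpa using θ'.2))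
    exact ⟨⟨l, hl1⟩, Subtype.ext hl.symm⟩
  have hfix : ∀ l : A, (∀ s, sA s l = l) → l = 1 := by
    intro l hl
    letI := Fintype.ofFinite S
    refine Subtype.ext (MonoidHom.ext fun k => ?_)
    have hls : ∀ (s : S) (k : K), (l : K →* ℂˣ) (rK s k) = (l : K →* ℂˣ) k := fun s k => by
      have h := DFunLike.congr_fun (congrArg Subtype.val (hl s⁻¹)) k
      exact (by rwa [show ((sA s⁻¹ l : A) : K →* ℂˣ) k = (l : K →* ℂˣ) (rK s⁻¹⁻¹ k) from rfl,
        inv_inv] at h)
    letI : CommGroup (K ⧸ L') := { (inferInstance : Group (K ⧸ L')) with mul_comm := hab }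
    obtain ⟨p, hp⟩ := QuotientGroup.mk_surjective (∏ s, ((rK s k : K) : K ⧸ L'))
    have hpL : p ∈ L' := Subgroup.mem_subgroupOf.2 (R.fpf _ p.2 fun t => by
      have h : ((rK t p : K) : K ⧸ L') = (p : K ⧸ L') := by
        let act' : K ⧸ L' →* K ⧸ L' :=
          QuotientGroup.map L' L' (rK t).toMonoidHom fun x hx => hLs t x hx
        rw [show ((rK t p : K) : K ⧸ L') = act' (p : K ⧸ L') from rfl, hp, map_prod]
        exact Fintype.prod_equiv (Equiv.mulLeft t) _ _ fun s => by
          simp [act', MulAut.mul_apply]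
      have h' := QuotientGroup.eq.1 h.symm
      rw [Subgroup.mem_subgroupOf] at h'
      simpa [rK, restrictAct, mul_assoc] using hLn.conj_mem _ h' (p : X))
    let lbar : K ⧸ L' →* ℂˣ := QuotientGroup.lift L' (l : K →* ℂˣ) fun x hx => l.2 x hx
    have h1 := congrArg lbar hp.symm
    rw [map_prod, show lbar (p : K ⧸ L') = (l : K →* ℂˣ) p from rfl, l.2 p hpL,
      Finset.prod_congr rfl (fun s _ => show lbar ((rK s k : K) : K ⧸ L') = (l : K →* ℂˣ) k from
        hls s k), Finset.prod_const, Finset.card_univ, ← Nat.card_eq_fintype_card] at h1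
    have h3 : ((l : K →* ℂˣ) k) ^ Nat.card K = 1 := by rw [← map_pow, pow_card_eq_one', map_one]
    have h4 : orderOf ((l : K →* ℂˣ) k) ∣ Nat.gcd (Nat.card K) (Nat.card S) :=
      Nat.dvd_gcd (orderOf_dvd_of_pow_eq_one h3) (orderOf_dvd_of_pow_eq_one h1)
    rw [hcopK.gcd_eq_one] at h4
    rw [OneMemClass.coe_one, MonoidHom.one_apply, ← pow_one ((l : K →* ℂˣ) k)]
    exact orderOf_dvd_iff_pow_eq_one.1 h4
  have hinvfix : ∀ θ : {θ // Over θ}, InvOn act K (θ.1 : K → ℂ) ↔ ∀ s : S, s • θ = θ := by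
    intro θ
    constructor
    · exact fun h s => Subtype.ext (Subtype.ext (funext fun n => h s⁻¹ n _ rfl))
    · intro h s x y hy
      have h1 := congrFun (congrArg (fun z : {θ // Over θ} => (z.1 : K → ℂ)) (h s⁻¹)) x
      rw [show ((s⁻¹ • θ : {θ // Over θ}).1 : K → ℂ) x = (θ.1 : K → ℂ) (rK s⁻¹⁻¹ x) from rfl,
        inv_inv] at h1
      rw [← h1]
      exact congrArg (θ.1 : K → ℂ) (Subtype.ext hy)
  -- some character lies over `φ`
  obtain ⟨θ₀, hθ₀⟩ : ∃ θ, Over θ := by
    obtain ⟨θ, hθ⟩ := exists_constituent (Induced.Character.isCharacter_indFun L' (isCharacter_irr φ'))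
      (fun h => by
        have h1 := congrFun h 1
        rw [indFun_one, Pi.zero_apply, mul_eq_zero] at h1
        rcases h1 with h1 | h1
        · exact Subgroup.index_ne_zero_of_finite (by exact_mod_cast h1)
        · exact apply_one_ne_zero φ' h1)
    refine ⟨θ, classInner_ne_zero_symm ?_⟩
    rwa [frobenius_reciprocity L' _ (isClassFunction_irr θ)] at hθ
  obtain ⟨l, hl⟩ := Torsor.exists_fixed sA hcomp hN hcopK ⟨θ₀, hθ₀⟩ fun s => htr _ _
  let θ : {θ // Over θ} := l • ⟨θ₀, hθ₀⟩
  have hθS : InvOn act K (θ.1 : K → ℂ) := (hinvfix θ).2 hl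
  have huniq : ∀ θ' : {θ // Over θ}, InvOn act K (θ'.1 : K → ℂ) → θ'.1 = θ.1 := fun θ' h => by
    obtain ⟨a, rfl⟩ := htr θ θ'
    rw [Torsor.fixed_unique sA hcomp hN hcopK hfix hl ((hinvfix _).1 h)]
  have hθX : ∀ x, conjC K x (θ.1 : K → ℂ) = (θ.1 : K → ℂ) := by
    intro x
    obtain ⟨h, hh, k, hk, rfl⟩ := R.sup x
    rw [conjC_mul]
    have hoverh : Over ⟨_, isIrrCharacter_conjC K h θ.1.2⟩ := by
      have e1 : Cfsg.classInner (fun n : L' => conjC K h (θ.1 : K → ℂ) n) φ' =
          Cfsg.classInner (fun n : L' => (θ.1 : K → ℂ) n) φ' := by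
        simp only [Cfsg.classInner]
        congr 1
        refine Fintype.sum_equiv (((e.trans (MulAut.conjNormal h : MulAut L)).trans e.symm)).toEquiv
          _ _ fun n => ?_
        refine congrArg₂ (· * ·) (congrArg (θ.1 : K → ℂ) (Subtype.ext rfl)) (congrArg conj ?_)
        exact (congrFun (hφX h) (e n)).symm.trans (congrArg (φ : L → ℂ) (Subtype.ext rfl))
      show Cfsg.classInner _ _ ≠ 0
      rw [e1]
      exact θ.2
    have hinv : InvOn act K (conjC K h (θ.1 : K → ℂ)) := by
      intro s a b hb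
      have hl : h * (act s h)⁻¹ ∈ L := by simpa using L.inv_mem (R.cent s h hh)
      rw [conjC_apply, conjC_apply]
      refine Eq.trans ?_ ((isClassFunction_irr θ.1
        ⟨act s (h * a * h⁻¹), R.stabK s _ (hKn.conj_mem _ a.2 h)⟩ ⟨_, R.le hl⟩).trans
        (hθS s ⟨h * a * h⁻¹, hKn.conj_mem _ a.2 h⟩ _ rfl))
      exact congrArg (θ.1 : K → ℂ) (Subtype.ext (by simp [hb, mul_assoc]))
    rw [show conjC K h (θ.1 : K → ℂ) = (θ.1 : K → ℂ) from
      congrArg Subtype.val (huniq ⟨_, hoverh⟩ hinv)]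
    exact conjC_of_mem K (isClassFunction_irr θ.1) hk
  have hD : Core.Data act K L H φ θ.1 :=
    { normL := hLn
      le := R.le
      comm := R.comm
      inf := R.inf
      sup := R.sup
      odd := R.odd
      cop := R.cop
      stabK := R.stabK
      stabL := R.stabL
      cent := R.cent
      fpf := R.fpf
      res := by
        obtain ⟨n, hn⟩ := exists_classInner_nat
          (isCharacter_comp L'.subtype (isCharacter_irr θ.1)) (isCharacter_irr φ')
        refine ⟨n, fun x hx => ?_⟩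
        have h := hres θ.1 θ.2 ⟨⟨x, hx⟩, Subgroup.mem_subgroupOf.2 x.2⟩
        rw [show Cfsg.classInner (fun n : L' => (θ.1 : K → ℂ) n) φ' = (n : ℂ) from hn] at h
        exact h
      invS := hθS
      invX := hθX }
  refine ⟨θ.1, hD, fun χ hχ hχφ => ?_⟩
  -- some constituent over `φ`; it is invariant
  obtain ⟨θ', hθ', hθ'φ⟩ : ∃ θ' : Cfsg.IrrCharacter K,
      Cfsg.classInner (fun k : K => (χ : X → ℂ) k) θ' ≠ 0 ∧ Over θ' := by
    obtain ⟨θ', hθ'⟩ := exists_constituent_restrict K χ.2
    refine ⟨θ', hθ', ?_⟩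
    obtain ⟨φ'', hφ''⟩ := exists_constituent_restrict L' θ'.2
    let φ₁ : Cfsg.IrrCharacter L :=
      ⟨(φ'' : L' → ℂ) ∘ e.symm.toMonoidHom, isIrrCharacter_comp _ e.symm.surjective φ''.2⟩
    have h1 : Cfsg.classInner ((fun k : K => (χ : X → ℂ) k) ∘ L'.subtype) φ'' ≠ 0 :=
      classInner_comp_ne_zero L'.subtype (isCharacter_comp K.subtype (isCharacter_irr χ)) hθ' hφ''
    have h2 : Cfsg.classInner (fun n : L => (χ : X → ℂ) n) φ₁ ≠ 0 := by
      have e1 : Cfsg.classInner (fun n : L => (χ : X → ℂ) n) φ₁ =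
          Cfsg.classInner ((fun k : K => (χ : X → ℂ) k) ∘ L'.subtype) φ'' := by
        simp only [Cfsg.classInner, Nat.card_congr e.toEquiv]
        congr 1
        exact Fintype.sum_equiv e.symm.toEquiv _ _ fun n => rfl
      rwa [e1]
    obtain ⟨x, hx⟩ := exists_conj_of_constituents L χ.2 hχφ h2
    have heq : φ'' = φ' := by
      refine Subtype.ext (funext fun n => ?_)
      have h := congrFun hx (e n)
      rw [hφX] at h
      refine Eq.trans ?_ h.symm
      exact congrArg (φ'' : L' → ℂ) (e.symm_apply_apply n).symm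
    show Cfsg.classInner _ (φ' : L' → ℂ) ≠ 0
    rw [← heq]
    exact hφ''
  suffices hinv : InvOn act K (θ' : K → ℂ) by rwa [← huniq ⟨θ', hθ'φ⟩ hinv]
  intro s x y hy
  let θs : Cfsg.IrrCharacter K :=
    ⟨(θ' : K → ℂ) ∘ (rK s).toMonoidHom, isIrrCharacter_comp _ (rK s).surjective θ'.2⟩
  have hs : Cfsg.classInner (fun k : K => (χ : X → ℂ) k) θs ≠ 0 := by
    have e1 : Cfsg.classInner (fun k : K => (χ : X → ℂ) k) θs =
        Cfsg.classInner (fun k : K => (χ : X → ℂ) k) θ' := by
      simp only [Cfsg.classInner]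
      congr 1
      refine Fintype.sum_equiv (rK s).toEquiv _ _ fun n => ?_
      exact congrArg₂ (· * ·) (hχ s n).symm rfl
    rwa [e1]
  obtain ⟨g, hg⟩ := exists_conj_of_constituents K χ.2 hθ' hs
  obtain ⟨h, hh, k, hk, rfl⟩ := R.sup g
  rw [conjC_mul, conjC_of_mem K (isClassFunction_of_isCharacter
    (isCharacter_conjC K h (isCharacter_irr θ'))) hk] at hg
  have h1 := Invariant.comp_eq_self K R.stabK R.cop (R.le (R.cent s h hh))
    (isClassFunction_irr θ') (hg.symm : (fun n : K => (θ' : K → ℂ) ⟨act s n, R.stabK s n n.2⟩) = _) x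
  exact (congrArg (θ' : K → ℂ) (Subtype.ext hy)).trans h1

end Cfsg.Agent.Lib.BC78.Parity.Reduce
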