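import Cfsg.Agent.Lib.BC78.Parity.Fourier
import Cfsg.Agent.Lib.BC78.LinTwist
import Mathlib.Analysis.Complex.Polynomial.Basic
import Mathlib.Algebra.Algebra.Basic

/-!
# Twisting operators of an irreducible representation over a normal subgroup

`Twist L σ lam a`: the operator `a` conjugates `σ` to its twist by the linear character `lam`
trivial on `L`; `tw L σ` is the group of those of exponent dividing the group order.
-/

set_option autoImplicit false

namespace Cfsg.Agent.Lib.BC78.Parity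

open Cfsg.Agent.Lib.Clifford

universe u w

variable {K : Type u} [Group K] {W : Type w} [AddCommGroup W] [Module ℂ W]

/-- The scalar units. -/
noncomputable def sc : ℂˣ →* (Module.End ℂ W)ˣ :=
  Units.map (algebraMap ℂ (Module.End ℂ W) : ℂ →* Module.End ℂ W)

theorem coe_sc (c : ℂˣ) : ((sc c : (Module.End ℂ W)ˣ) : Module.End ℂ W) = (c : ℂ) • 1 :=
  Algebra.algebraMap_eq_smul_one (c : ℂ)

theorem sc_comm (c : ℂˣ) (a : (Module.End ℂ W)ˣ) : a * sc c = sc c * a :=
  Units.ext (by simp only [Units.val_mul, coe_sc, mul_smul_comm, smul_mul_assoc, mul_one, one_mul])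

theorem sc_injective [Nontrivial W] : Function.Injective (sc (W := W)) := fun c d h => by
  have h1 := congrArg (fun a : (Module.End ℂ W)ˣ => (a : Module.End ℂ W)) h
  simp only [coe_sc] at h1
  exact Units.ext ((smul_left_injective ℂ (one_ne_zero (α := Module.End ℂ W))) h1)

variable (L : Subgroup K) (σ : Representation ℂ K W)

/-- `a` conjugates `σ` to its twist by `lam`. -/
def Twist (lam : K →* ℂˣ) (a : (Module.End ℂ W)ˣ) : Prop :=
  (∀ x ∈ L, lam x = 1) ∧
    ∀ k, σ k * (a : Module.End ℂ W) = (lam k : ℂ) • ((a : Module.End ℂ W) * σ k)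

variable {L σ}

theorem Twist.mul {lam mu : K →* ℂˣ} {a b : (Module.End ℂ W)ˣ} (ha : Twist L σ lam a)
    (hb : Twist L σ mu b) : Twist L σ (lam * mu) (a * b) := by
  refine ⟨fun x hx => by rw [MonoidHom.mul_apply, ha.1 x hx, hb.1 x hx, one_mul], fun k => ?_⟩
  rw [Units.val_mul, ← mul_assoc, ha.2 k, smul_mul_assoc, mul_assoc, hb.2 k, mul_smul_comm,
    smul_smul, MonoidHom.mul_apply, Units.val_mul, mul_assoc]

theorem Twist.one : Twist L σ 1 1 :=
  ⟨fun _ _ => rfl, fun k => by simp⟩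

theorem Twist.inv {lam : K →* ℂˣ} {a : (Module.End ℂ W)ˣ} (ha : Twist L σ lam a) :
    Twist L σ lam⁻¹ a⁻¹ := by
  refine ⟨fun x hx => by rw [MonoidHom.inv_apply, ha.1 x hx, inv_one], fun k => ?_⟩
  rw [MonoidHom.inv_apply, Units.val_inv_eq_inv_val]
  refine (smul_right_injective _ (Units.ne_zero (lam k))) ?_
  simp only [smul_smul]
  rw [mul_inv_cancel₀ (Units.ne_zero _), one_smul]
  calc (lam k : ℂ) • (σ k * (↑a⁻¹ : Module.End ℂ W))
      = (↑a⁻¹ : Module.End ℂ W) * ((lam k : ℂ) • ((a : Module.End ℂ W) * σ k)) *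
          (↑a⁻¹ : Module.End ℂ W) := by
        simp only [mul_smul_comm, smul_mul_assoc, ← mul_assoc, Units.inv_mul, one_mul]
    _ = (↑a⁻¹ : Module.End ℂ W) * σ k := by
        rw [← ha.2 k, mul_assoc, mul_assoc, Units.mul_inv, mul_one]

theorem Twist.scalar (c : ℂˣ) : Twist L σ 1 (sc c) :=
  ⟨fun _ _ => rfl, fun k => by simp [coe_sc]⟩

theorem Twist.commute {lam : K →* ℂˣ} {a : (Module.End ℂ W)ˣ} (ha : Twist L σ lam a) {x : K}
    (hx : x ∈ L) : (a : Module.End ℂ W) * σ x = σ x * (a : Module.End ℂ W) := by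
  rw [ha.2 x, ha.1 x hx, Units.val_one, one_smul]

theorem Twist.unique [Nontrivial W] {lam mu : K →* ℂˣ} {a : (Module.End ℂ W)ˣ}
    (ha : Twist L σ lam a) (hb : Twist L σ mu a) : lam = mu := by
  refine MonoidHom.ext fun k => Units.ext ?_
  have h := (ha.2 k).symm.trans (hb.2 k)
  have hne : (a : Module.End ℂ W) * σ k ≠ 0 := by
    intro h0
    have h2 := congrArg (fun y => (↑a⁻¹ : Module.End ℂ W) * y * σ k⁻¹) h0
    simp only [← mul_assoc, Units.inv_mul, one_mul, mul_zero, zero_mul, ← map_mul,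
      mul_inv_cancel, map_one] at h2
    exact one_ne_zero h2
  exact smul_left_injective ℂ hne h

theorem Twist.pow {lam : K →* ℂˣ} {a : (Module.End ℂ W)ˣ} (ha : Twist L σ lam a) :
    ∀ n : ℕ, Twist L σ (lam ^ n) (a ^ n)
  | 0 => by
    rw [pow_zero a, show lam ^ 0 = 1 from MonoidHom.ext fun k => pow_zero (lam k)]
    exact Twist.one
  | n + 1 => by
    rw [pow_succ a, show lam ^ (n + 1) = lam ^ n * lam from
      MonoidHom.ext fun k => pow_succ (lam k) n]
    exact (ha.pow n).mul ha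

variable [FiniteDimensional ℂ W] [σ.IsIrreducible]

/-- An operator that twists trivially is a scalar. -/
theorem Twist.eq_sc {a : (Module.End ℂ W)ˣ} (ha : Twist L σ 1 a) : ∃ c : ℂˣ, a = sc c := by
  have := Rep.nontrivial_of_irreducible σ
  obtain ⟨c, hc⟩ := Rep.schur σ (a : Module.End ℂ W) fun g => by
    rw [ha.2 g]; simp
  have hc0 : c ≠ 0 := by
    rintro rfl
    rw [zero_smul] at hc
    exact not_isUnit_zero (hc ▸ a.isUnit)
  exact ⟨Units.mk0 c hc0, Units.ext (by rw [coe_sc, hc, Units.val_mk0])⟩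

/-- Twisting operators commute up to scalars. -/
theorem Twist.comm {lam mu : K →* ℂˣ} {a b : (Module.End ℂ W)ˣ} (ha : Twist L σ lam a)
    (hb : Twist L σ mu b) : ∃ z : ℂˣ, a * b = sc z * (b * a) := by
  have h := (ha.mul hb).mul (hb.mul ha).inv
  rw [show lam * mu * (mu * lam)⁻¹ = 1 from MonoidHom.ext fun k => by
    simp only [MonoidHom.mul_apply, MonoidHom.inv_apply, MonoidHom.one_apply]
    rw [mul_comm (mu k), mul_inv_cancel]] at h
  obtain ⟨z, hz⟩ := h.eq_sc
  exact ⟨z, by rw [← hz, inv_mul_cancel_right]⟩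

end Cfsg.Agent.Lib.BC78.Parity
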